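import Cfsg.Agent.Lib.QTPush.Defs
import Mathlib.GroupTheory.Subgroup.Centralizer
import Mathlib.Tactic.Group

/-!
An element of odd order acting on an elementary abelian 2-group.
-/

set_option autoImplicit false

namespace CfsgLib.QTPush

open scoped commutatorElement

universe u

variable {G : Type u} [Group G] {V : Subgroup G} {x : G}

theorem elem2_inv {A : Subgroup G} (h : Elem2 A) {a : G} (ha : a ∈ A) : a⁻¹ = a :=
  inv_eq_of_mul_eq_one_right (h.2 a ha)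

theorem mem_wx_of_mem {v : G} (hv : v ∈ V) : ⁅v, x⁆ ∈ wx V x :=
  Subgroup.subset_closure ⟨v, hv, rfl⟩

theorem wx_le_of (hx : x ∈ Subgroup.normalizer (V : Set G)) : wx V x ≤ V :=
  (Subgroup.closure_le _).2 fun _ ⟨v, hv, e⟩ => by
    rw [e, SetLike.mem_coe, commutatorElement_def, mul_assoc, mul_assoc, ← mul_assoc x]
    exact mul_mem hv ((Subgroup.mem_normalizer_iff.1 hx _).1 (inv_mem hv))

/-- An element moved into `V` is moved as by an element of `V`. -/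
theorem exists_comm_eq (hV : Elem2 V) (hx : x ∈ Subgroup.normalizer (V : Set G)) (hodd : Odd (orderOf x)) {c : G}
    (hv : ⁅c, x⁆ ∈ V) : ∃ u ∈ V, ⁅c, x⁆ = ⁅u, x⁆ := by
  have hn : orderOf x % 2 = 1 := Nat.odd_iff.1 hodd
  set v := ⁅c, x⁆ with hvdef
  have hvx : (v * x) ^ orderOf x = 1 := by
    rw [show v * x = c * x * c⁻¹ by rw [hvdef, commutatorElement_def]; group, conj_pow, pow_orderOf_eq_one, mul_one,
      mul_inv_cancel]
  -- the displacement is a commutator with `x`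
  have key : ∀ k : ℕ, ∃ u ∈ V, (v * x) ^ k = v ^ k * ⁅u, x⁆ * x ^ k := by
    intro k
    induction k with
    | zero => exact ⟨1, one_mem _, by simp⟩
    | succ k ih =>
      obtain ⟨u, hu, e⟩ := ih
      have hxk : x ^ k * v * (x ^ k)⁻¹ ∈ V := (Subgroup.mem_normalizer_iff.1 (pow_mem hx k) v).1 hv
      obtain ⟨u', hu', e'⟩ : ∃ u' ∈ V, x ^ k * v * (x ^ k)⁻¹ = v * ⁅u', x⁆ := by
        clear e
        induction k with
        | zero => exact ⟨1, one_mem _, by simp⟩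
        | succ j ihj =>
          have hxj : x ^ j * v * (x ^ j)⁻¹ ∈ V := (Subgroup.mem_normalizer_iff.1 (pow_mem hx j) v).1 hv
          obtain ⟨u', hu', e'⟩ := ihj hxj
          set t := x ^ j * v * (x ^ j)⁻¹ with ht
          refine ⟨u' * t⁻¹, mul_mem hu' (inv_mem hxj), ?_⟩
          have h1 : ⁅u' * t⁻¹, x⁆ = u' * ⁅t⁻¹, x⁆ * u'⁻¹ * ⁅u', x⁆ := by
            simp only [commutatorElement_def]; group
          have h2 : ⁅t⁻¹, x⁆ ∈ V := wx_le_of hx (mem_wx_of_mem (inv_mem hxj))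
          rw [h1, hV.1 u' hu' _ h2, mul_inv_cancel_right, ← mul_assoc,
            hV.1 v hv _ h2, mul_assoc ⁅t⁻¹, x⁆ v, ← e', hV.1 _ h2 t hxj]
          rw [ht, commutatorElement_def, pow_succ']
          group
      refine ⟨u * u', mul_mem hu hu', ?_⟩
      have h1 : ⁅u * u', x⁆ = u * ⁅u', x⁆ * u⁻¹ * ⁅u, x⁆ := by simp only [commutatorElement_def]; group
      have h2 : ⁅u', x⁆ ∈ V := wx_le_of hx (mem_wx_of_mem hu')
      have h3 : ⁅u, x⁆ ∈ V := wx_le_of hx (mem_wx_of_mem hu)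
      rw [h1, hV.1 u hu _ h2, mul_inv_cancel_right, pow_succ (v * x), e, pow_succ x, pow_succ v]
      calc v ^ k * ⁅u, x⁆ * x ^ k * (v * x) = v ^ k * ⁅u, x⁆ * (x ^ k * v * (x ^ k)⁻¹) * (x ^ k * x) := by group
        _ = v ^ k * (⁅u, x⁆ * (v * ⁅u', x⁆)) * (x ^ k * x) := by rw [e']; group
        _ = v ^ k * (v * (⁅u', x⁆ * ⁅u, x⁆)) * (x ^ k * x) := by
          rw [← mul_assoc ⁅u, x⁆, hV.1 _ h3 v hv, mul_assoc v, hV.1 _ h3 _ h2]
        _ = _ := by group
  obtain ⟨u, hu, e⟩ := key (orderOf x)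
  have h2v : v ^ orderOf x = v := by
    have hv2 : v ^ 2 = 1 := by rw [pow_two]; exact hV.2 v hv
    rw [← Nat.div_add_mod (orderOf x) 2, hn, pow_add, pow_mul, hv2, one_pow, one_mul, pow_one]
  rw [hvx, h2v, pow_orderOf_eq_one, mul_one] at e
  have hvv : v = ⁅u, x⁆ := by
    rw [← elem2_inv hV (wx_le_of hx (mem_wx_of_mem hu))]
    exact eq_inv_of_mul_eq_one_left e.symm
  exact ⟨u, hu, hvv⟩

/-- The elements of `[V, x]` are commutators. -/
theorem exists_of_mem_wx (hV : Elem2 V) (hx : x ∈ Subgroup.normalizer (V : Set G)) {w : G} (hw : w ∈ wx V x) :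
    ∃ u ∈ V, w = ⁅u, x⁆ := by
  induction hw using Subgroup.closure_induction with
  | mem w hw => exact hw
  | one => exact ⟨1, one_mem _, by simp⟩
  | mul a b _ _ e1 e2 =>
    obtain ⟨u, hu, rfl⟩ := e1
    obtain ⟨v, hv, rfl⟩ := e2
    refine ⟨u * v, mul_mem hu hv, ?_⟩
    have h2 : ⁅v, x⁆ ∈ V := wx_le_of hx (mem_wx_of_mem hv)
    have h3 : ⁅u, x⁆ ∈ V := wx_le_of hx (mem_wx_of_mem hu)
    have h1 : ⁅u * v, x⁆ = u * ⁅v, x⁆ * u⁻¹ * ⁅u, x⁆ := by simp only [commutatorElement_def]; group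
    rw [h1, hV.1 u hu _ h2, mul_inv_cancel_right, hV.1 _ h2 _ h3]
  | inv a _ e1 =>
    obtain ⟨u, hu, rfl⟩ := e1
    exact ⟨u, hu, elem2_inv hV (wx_le_of hx (mem_wx_of_mem hu))⟩

/-- `x` fixes nothing in `[V, x]`. -/
theorem wx_fixed (hV : Elem2 V) (hx : x ∈ Subgroup.normalizer (V : Set G)) (hodd : Odd (orderOf x)) {w : G}
    (hw : w ∈ wx V x) (hc : Commute w x) : w = 1 := by
  obtain ⟨u, hu, rfl⟩ := exists_of_mem_wx hV hx hw
  set d := ⁅u, x⁆ with hd
  have hdV : d ∈ V := wx_le_of hx (mem_wx_of_mem hu)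
  have h1 : x * u * x⁻¹ = d * u := by
    calc x * u * x⁻¹ = d⁻¹ * u := by rw [hd, elem2_inv hV hu |>.symm]; simp only [commutatorElement_def]; group
      _ = d * u := by rw [elem2_inv hV hdV]
  have h2 : ∀ k : ℕ, x ^ k * u * (x ^ k)⁻¹ = d ^ k * u := by
    intro k
    induction k with
    | zero => simp
    | succ k ih =>
      calc x ^ (k + 1) * u * (x ^ (k + 1))⁻¹ = x * (x ^ k * u * (x ^ k)⁻¹) * x⁻¹ := by rw [pow_succ']; group
        _ = x * d ^ k * x⁻¹ * (x * u * x⁻¹) := by rw [ih]; group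
        _ = d ^ k * (d * u) := by rw [((hc.pow_left k).symm).eq, mul_inv_cancel_right, h1]
        _ = d ^ (k + 1) * u := by rw [pow_succ]; group
  have h3 := h2 (orderOf x)
  rw [pow_orderOf_eq_one, one_mul, inv_one, mul_one] at h3
  obtain ⟨m, hm⟩ := hodd
  have h4 : d ^ 2 = 1 := by rw [pow_two]; exact hV.2 d hdV
  rw [hm, pow_succ, pow_mul, h4, one_pow, one_mul] at h3
  exact mul_eq_right.1 h3.symm

end CfsgLib.QTPush
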