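import Cfsg.Agent.Lib.BlockPush.Models
import Cfsg.Agent.Lib.BlockPush.PermStab

/-!
An element of order three of a linear or symmetric component, with the line fixed by the offenders.
-/

set_option autoImplicit false
set_option linter.unusedSectionVars false

namespace CfsgLib.QTPush

open CfsgLib CfsgLib.RootCommute CfsgLib.RootBlocks CfsgLib.BlockPush Equiv CfsgLib.SymSylow
open CfsgLib.SL2Pair (fix mem_fix)

/-- What is used of a root in a model. -/
structure RootModel {G0 : Type} [Group G0] {U0 : Type} [AddCommGroup U0] (σ : G0 →* AddMonoid.End U0)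
    (J0 : Subgroup G0) (ξ : G0) (N0 : Subgroup G0) (U1 L : AddSubgroup U0) : Prop where
  cube : ξ ^ 3 = 1
  rng : ∀ u, u ∈ U1 ↔ ∃ a, σ ξ a - a = u
  nle : N0 ≤ J0
  nfix : ∀ j ∈ N0, ∀ u ∈ U1, σ j u = u
  ncomm : ∀ j ∈ N0, j * ξ = ξ * j
  lle : L ≤ U1
  lne : ¬ U1 ≤ L
  idx : N0.relIndex J0 = L.relIndex U1
  move : ∀ j ∈ J0, j ∉ N0 → ∀ u ∈ U1, u ∉ L → σ ξ (σ j u - u) ≠ σ j u - u
  irr : ∀ u ∈ L, σ ξ u ∈ L → u = 0
  big : ∀ X : Subgroup G0, X ≤ J0 → ¬ X ≤ N0 → Nat.card U0 ≤ Nat.card X * Nat.card (fix σ X) → J0 ≤ X ⊔ N0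

section Lin

variable {F : Type} [Field F] [Fintype F] [CharP F 2]

local notation "SL" => Matrix.SpecialLinearGroup (Fin 2) F
local notation "V2" => (Fin 2 → F)

/-- An element of order three with a nonzero lower left entry. -/
def slThree : SL := ⟨!![0, 1; 1, 1], by rw [Matrix.det_fin_two_of, zero_mul, one_mul, zero_sub, CharTwo.neg_eq]⟩

theorem slThree_apply (x : V2) : natSL (slThree (F := F)) x = ![x 1, x 0 + x 1] := by
  funext i
  fin_cases i
  · show natSL slThree x 0 = _
    rw [natSL_apply0]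
    show (0 : F) * x 0 + 1 * x 1 = x 1
    rw [zero_mul, one_mul, zero_add]
  · show natSL slThree x 1 = _
    rw [natSL_apply1]
    show (1 : F) * x 0 + 1 * x 1 = x 0 + x 1
    rw [one_mul, one_mul]

theorem slThree_low : (slThree (F := F)).1 1 0 = 1 := rfl

theorem slThree_cube : (slThree (F := F)) ^ 3 = 1 := by
  refine natSL_injective ?_
  rw [map_pow, map_one]
  refine AddMonoidHom.ext fun x => ?_
  show natSL slThree (natSL slThree (natSL slThree x)) = x
  rw [slThree_apply, slThree_apply, slThree_apply]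
  funext i
  fin_cases i <;> simp only [Matrix.cons_val_zero, Matrix.cons_val_one, Fin.isValue, Fin.zero_eta, Fin.mk_one]
  · calc x 1 + (x 0 + x 1) = x 0 + (x 1 + x 1) := by ring
      _ = x 0 := by rw [CharTwo.add_self_eq_zero, add_zero]
  · calc x 0 + x 1 + (x 1 + (x 0 + x 1)) = x 1 + (x 0 + x 0) + (x 1 + x 1) := by ring
      _ = x 1 := by rw [CharTwo.add_self_eq_zero, CharTwo.add_self_eq_zero, add_zero, add_zero]

theorem rootModel_sl :
    RootModel (natSL (F := F)) uGrp slThree ⊥ ⊤ (fix natSL (uGrp : Subgroup SL)) := by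
  have hidx : (fix natSL (uGrp : Subgroup SL)).index = Fintype.card F := by
    have h := (fix natSL (uGrp : Subgroup SL)).card_mul_index
    rw [card_fix_line, card_V2] at h
    exact Nat.eq_of_mul_eq_mul_left Fintype.card_pos h
  refine ⟨slThree_cube, fun u => ⟨fun _ => ?_, fun _ => trivial⟩, bot_le, fun j hj u _ => ?_, fun j hj => ?_, le_top,
    fun h => ?_, ?_, fun j hj hj' u _ hu => ?_, fun u hu hu' => ?_, fun X hX hX' hc => ?_⟩
  · refine ⟨![u 1, u 0 + u 1], ?_⟩
    rw [slThree_apply]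
    funext i
    fin_cases i
    · show u 0 + u 1 - u 1 = u 0
      exact add_sub_cancel_right _ _
    · show u 1 + (u 0 + u 1) - (u 0 + u 1) = u 1
      exact add_sub_cancel_right _ _
  · rw [Subgroup.mem_bot.1 hj, map_one]; rfl
  · rw [Subgroup.mem_bot.1 hj, one_mul, mul_one]
  · exact one_ne_zero (mem_fix_uGrp.1 (h (AddSubgroup.mem_top (![0, 1] : V2))))
  · rw [Subgroup.relIndex_bot_left, card_uGrp, AddSubgroup.relIndex_top_right, hidx]
  · rw [uGrp_eq hj, natSL_u]
    have ha : j.1 0 1 ≠ 0 := fun e => hj' (Subgroup.mem_bot.2 (by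
      rw [uGrp_eq hj, e]
      exact Subtype.ext (by simp [PSL2.coe_uSL, Matrix.one_fin_two])))
    have hu1 : u 1 ≠ 0 := fun e => hu (mem_fix_uGrp.2 e)
    rw [slThree_apply]
    intro e
    have e0 := congrFun e 0
    simp [ha, hu1] at e0
  · rw [mem_fix_uGrp, slThree_apply] at hu'
    have h1 := mem_fix_uGrp.1 hu
    rw [Matrix.cons_val_one, Matrix.cons_val_fin_one, h1, add_zero] at hu'
    rw [vec_eq h1, hu']
    funext i; fin_cases i <;> rfl
  · have hne : X ≠ ⊥ := fun e => hX' e.le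
    have hle : fix natSL X ≤ fix natSL (uGrp : Subgroup SL) := fun x hx =>
      mem_fix_uGrp.2 (fix_uGrp_nontrivial hX hne hx)
    have h2 : Fintype.card F * Fintype.card F ≤ Nat.card X * Fintype.card F := by
      rw [← card_V2]
      refine hc.trans (Nat.mul_le_mul_left _ ?_)
      rw [← card_fix_line]
      exact Nat.card_le_card_of_injective _ (AddSubgroup.inclusion_injective hle)
    rw [Subgroup.eq_of_le_of_card_ge hX (by rw [card_uGrp]; exact Nat.le_of_mul_le_mul_right h2 Fintype.card_pos)]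
    exact le_sup_left

end Lin

section Perm

variable {α : Type} [Fintype α] [DecidableEq α] {μ : Perm α} {a c : α}

theorem rootModel_perm (hμ : IsPairing μ) (hc : μ c = c) (hac : a ≠ c) :
    ∃ (N0 : Subgroup (Perm α)) (U1 L : AddSubgroup ↥(evenVec α)),
      RootModel natPerm (pairGrp μ) (swap a (μ a) * swap a c) N0 U1 L := by
  set b := μ a with hbdef
  have hba : b ≠ a := fun e => hac (hμ.fixed a c e hc)
  have hbc : b ≠ c := fun e => hac (by rw [← hμ.invol a, ← hbdef, e, hc])
  set ξ : Perm α := swap a b * swap a c with hξ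
  have xa : ξ a = c := by rw [hξ, Perm.mul_apply, swap_apply_left, swap_apply_of_ne_of_ne hac.symm hbc.symm]
  have xb : ξ b = a := by rw [hξ, Perm.mul_apply, swap_apply_of_ne_of_ne hba hbc, swap_apply_right]
  have xc : ξ c = b := by rw [hξ, Perm.mul_apply, swap_apply_right, swap_apply_left]
  have hk : ∀ σ ∈ pairGrp μ, σ c = c ∧ (σ a = a ∧ σ b = b ∨ σ a = b ∧ σ b = a) := fun σ hσ => by
    have h := pairGrp_le hμ hσ
    refine ⟨(h c).elim id fun e => e.trans hc, ?_⟩
    have hb : σ b = b ∨ σ b = a := (h b).imp_right fun e => e.trans (by rw [hbdef, hμ.invol])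
    rcases h a with e | e
    · exact Or.inl ⟨e, hb.resolve_right fun e' => hba (σ.injective (e'.trans e.symm))⟩
    · exact Or.inr ⟨e, hb.resolve_left fun e' => hba (σ.injective (e'.trans e.symm))⟩
  let N0 : Subgroup (Perm α) :=
    { carrier := {σ | σ ∈ pairGrp μ ∧ σ a = a}
      one_mem' := ⟨one_mem _, rfl⟩
      mul_mem' := fun {s t} hs ht => ⟨mul_mem hs.1 ht.1, by rw [Perm.mul_apply, ht.2, hs.2]⟩
      inv_mem' := fun {s} hs => ⟨inv_mem hs.1, Perm.inv_eq_iff_eq.2 hs.2.symm⟩ }
  let L : AddSubgroup ↥(evenVec α) :=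
    { carrier := {v | v = 0 ∨ v = pairVec a b}
      zero_mem' := Or.inl rfl
      add_mem' := fun {v w} hv hw => by
        rcases hv with rfl | rfl <;> rcases hw with rfl | rfl
        · exact Or.inl (add_zero _)
        · exact Or.inr (zero_add _)
        · exact Or.inr (add_zero _)
        · exact Or.inl (add_self_evenVec _)
      neg_mem' := fun {v} hv => by
        rw [show -v = v from neg_eq_of_add_eq_zero_left (add_self_evenVec v)]
        exact hv }
  let d : ↥(evenVec α) →+ ↥(evenVec α) := (show ↥(evenVec α) →+ ↥(evenVec α) from natPerm ξ) - AddMonoidHom.id ↥(evenVec α)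
  have hd : ∀ v, d v = natPerm ξ v - v := fun v => rfl
  set U1 := d.range with hU1
  have hsub : ∀ v w : ↥(evenVec α), v - w = v + w := fun v w => by
    rw [sub_eq_add_neg, show -w = w from neg_eq_of_add_eq_zero_left (add_self_evenVec w)]
  have mab : pairVec a b ∈ U1 := ⟨pairVec a c, by
    rw [hd, natPerm_pairVec, xa, xc, hsub, add_comm, pairVec_add]⟩
  have mac : pairVec a c ∈ U1 := ⟨pairVec b c, by
    rw [hd, natPerm_pairVec, xb, xc, hsub, pairVec_add]⟩
  have mbc : pairVec b c ∈ U1 := by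
    have := add_mem mab mac
    rwa [pairVec_comm a b, pairVec_add] at this
  have four : ∀ u ∈ U1, u = 0 ∨ u = pairVec a b ∨ u = pairVec b c ∨ u = pairVec a c := by
    rintro _ ⟨v, rfl⟩
    have h0 : ∀ i, i ≠ a → i ≠ b → i ≠ c → (d v : α → ZMod 2) i = 0 := fun i hia hib hic => by
      have : ξ⁻¹ i = i := Perm.inv_eq_iff_eq.2 (by
        rw [hξ, Perm.mul_apply, swap_apply_of_ne_of_ne hia hic, swap_apply_of_ne_of_ne hia hib])
      show (v : α → ZMod 2) (ξ⁻¹ i) - (v : α → ZMod 2) i = 0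
      rw [this, sub_self]
    set w := (d v : α → ZMod 2) with hw
    have hs : w a + w b + w c = 0 := by
      have h := mem_evenVec.1 (d v).2
      rw [← hw, ← Finset.sum_subset (Finset.subset_univ {a, b, c}) fun i _ hi => by
        simp only [Finset.mem_insert, Finset.mem_singleton, not_or] at hi
        exact h0 i hi.1 hi.2.1 hi.2.2] at h
      rwa [Finset.sum_insert (by simp [hba.symm, hac]), Finset.sum_insert (by simp [hbc]), Finset.sum_singleton,
        ← add_assoc] at h
    have heq : ∀ u : ↥(evenVec α), (∀ i, i ≠ a → i ≠ b → i ≠ c → (u : α → ZMod 2) i = 0) →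
        (u : α → ZMod 2) a = w a → (u : α → ZMod 2) b = w b → (u : α → ZMod 2) c = w c → d v = u :=
      fun u hu ha hb hc' => Subtype.ext (funext fun i => by
        by_cases h1 : i = a
        · rw [h1]; exact ha.symm
        by_cases h2 : i = b
        · rw [h2]; exact hb.symm
        by_cases h3 : i = c
        · rw [h3]; exact hc'.symm
        rw [hu i h1 h2 h3]; exact h0 i h1 h2 h3)
    have cases4 : ∀ p q r : ZMod 2, p + q + r = 0 →
        (p = 0 ∧ q = 0 ∧ r = 0) ∨ (p = 1 ∧ q = 1 ∧ r = 0) ∨ (p = 0 ∧ q = 1 ∧ r = 1) ∨ (p = 1 ∧ q = 0 ∧ r = 1) := by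
      decide
    rcases cases4 _ _ _ hs with ⟨e1, e2, e3⟩ | ⟨e1, e2, e3⟩ | ⟨e1, e2, e3⟩ | ⟨e1, e2, e3⟩
    · exact Or.inl (heq 0 (fun _ _ _ _ => rfl) e1.symm e2.symm e3.symm)
    · refine Or.inr (Or.inl (heq _ (fun i h1 h2 _ => pairVec_apply_other h1 h2) ?_ ?_ ?_))
      · rw [e1, pairVec_apply_left hba.symm]
      · rw [e2, pairVec_comm, pairVec_apply_left hba]
      · rw [e3, pairVec_apply_other hac.symm hbc.symm]
    · refine Or.inr (Or.inr (Or.inl (heq _ (fun i _ h2 h3 => pairVec_apply_other h2 h3) ?_ ?_ ?_)))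
      · rw [e1, pairVec_apply_other hba.symm hac]
      · rw [e2, pairVec_apply_left hbc]
      · rw [e3, pairVec_comm, pairVec_apply_left hbc.symm]
    · refine Or.inr (Or.inr (Or.inr (heq _ (fun i h1 _ h3 => pairVec_apply_other h1 h3) ?_ ?_ ?_)))
      · rw [e1, pairVec_apply_left hac]
      · rw [e2, pairVec_apply_other hba hbc]
      · rw [e3, pairVec_comm, pairVec_apply_left hac.symm]
  have hnot : pairVec b c ∉ L := by
    rintro (e | e)
    · exact pairVec_ne_zero hbc e
    · have h := congrArg (fun v : ↥(evenVec α) => (v : α → ZMod 2) c) e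
      simp only [pairVec_apply_other hac.symm hbc.symm] at h
      rw [pairVec_comm, pairVec_apply_left hbc.symm] at h
      exact one_ne_zero h
  have mem_N : ∀ σ, σ ∈ pairGrp μ → σ ∉ N0 → σ a = b ∧ σ b = a ∧ σ c = c := fun σ hσ hn =>
    ⟨((hk σ hσ).2.resolve_left fun e => hn ⟨hσ, e.1⟩).1, ((hk σ hσ).2.resolve_left fun e => hn ⟨hσ, e.1⟩).2,
      (hk σ hσ).1⟩
  refine ⟨N0, U1, L, ?_, fun u => ⟨fun ⟨v, hv⟩ => ⟨v, hv⟩, fun ⟨v, hv⟩ => ⟨v, hv⟩⟩, fun σ h => h.1, fun j hj u hu => ?_,
    fun j hj => ?_, ?_, fun h => hnot (h mbc), ?_, fun j hj hj' u hu hu' => ?_, fun u hu hu' => ?_,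
    fun X hX hX' _ => ?_⟩
  · have h := (Perm.isThreeCycle_swap_mul_swap_same hba.symm hac hbc).orderOf
    exact h ▸ pow_orderOf_eq_one ξ
  · obtain ⟨jc, ⟨ja, jb⟩ | ⟨ja, -⟩⟩ := hk j hj.1
    · rcases four u hu with rfl | rfl | rfl | rfl
      · exact map_zero _
      all_goals rw [natPerm_pairVec]; simp only [ja, jb, jc]
    · exact absurd (ja.symm.trans hj.2) hba
  · obtain ⟨jc, ⟨ja, jb⟩ | ⟨ja, -⟩⟩ := hk j hj.1
    · have e1 : j * swap a b * j⁻¹ = swap a b := by rw [← swap_apply_apply, ja, jb]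
      have e2 : j * swap a c * j⁻¹ = swap a c := by rw [← swap_apply_apply, ja, jc]
      calc j * ξ = j * swap a b * j⁻¹ * (j * swap a c * j⁻¹) * j := by rw [hξ]; group
        _ = ξ * j := by rw [e1, e2]
    · exact absurd (ja.symm.trans hj.2) hba
  · rintro v (rfl | rfl)
    exacts [zero_mem _, mab]
  · rw [show N0.relIndex (pairGrp μ) = 2 from ?_, show L.relIndex U1 = 2 from ?_]
    · refine AddSubgroup.index_eq_two_iff.2 ⟨⟨pairVec b c, mbc⟩, fun u => ?_⟩
      simp only [AddSubgroup.mem_addSubgroupOf, AddSubgroup.coe_add]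
      rcases four u.1 u.2 with e | e | e | e <;> rw [e]
      · exact Or.inr ⟨Or.inl rfl, by rwa [zero_add]⟩
      · refine Or.inr ⟨Or.inr rfl, fun h => hnot ?_⟩
        have h2 := L.add_mem h (Or.inr rfl : pairVec a b ∈ L)
        rwa [add_comm (pairVec a b), add_assoc, add_self_evenVec, add_zero] at h2
      · exact Or.inl ⟨Or.inl (add_self_evenVec _), hnot⟩
      · refine Or.inl ⟨Or.inr ?_, fun h => hnot ?_⟩
        · rw [← pairVec_comm c b, pairVec_add]
        · have h2 := L.add_mem (Or.inr rfl : pairVec a b ∈ L) h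
          rwa [pairVec_comm a b, pairVec_add] at h2
    · refine Subgroup.index_eq_two_iff.2 ⟨⟨swap a b, swap_mem_pairGrp μ a⟩, fun σ => ?_⟩
      simp only [Subgroup.mem_subgroupOf, Subgroup.coe_mul]
      obtain ⟨-, ⟨ja, jb⟩ | ⟨ja, jb⟩⟩ := hk σ.1 σ.2
      · refine Or.inr ⟨⟨σ.2, ja⟩, fun h => hba ?_⟩
        have := h.2
        rwa [Perm.mul_apply, swap_apply_left, jb] at this
      · refine Or.inl ⟨⟨mul_mem σ.2 (swap_mem_pairGrp μ a), ?_⟩, fun h => hba (ja.symm.trans h.2)⟩
        rw [Perm.mul_apply, swap_apply_left, jb]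
  · obtain ⟨ja, jb, jc⟩ := mem_N j hj hj'
    have e : natPerm j u - u = pairVec a b := by
      rcases four u hu with rfl | rfl | rfl | rfl
      · exact absurd (Or.inl rfl) hu'
      · exact absurd (Or.inr rfl) hu'
      · rw [natPerm_pairVec, jb, jc, hsub, pairVec_comm b c, pairVec_add]
      · rw [natPerm_pairVec, ja, jc, hsub, add_comm, pairVec_comm b c, pairVec_add]
    rw [e, natPerm_pairVec, xa, xb]
    intro h
    have h1 := congrArg (fun v : ↥(evenVec α) => (v : α → ZMod 2) c) h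
    simp only [pairVec_apply_left hac.symm, pairVec_apply_other hac.symm hbc.symm] at h1
    exact one_ne_zero h1
  · rcases hu with rfl | rfl
    · rfl
    · exfalso
      rw [natPerm_pairVec, xa, xb] at hu'
      rcases hu' with e | e
      · exact pairVec_ne_zero hac.symm e
      · have h1 := congrArg (fun v : ↥(evenVec α) => (v : α → ZMod 2) c) e
        simp only [pairVec_apply_left hac.symm, pairVec_apply_other hac.symm hbc.symm] at h1
        exact one_ne_zero h1
  · obtain ⟨y, hy, hy'⟩ := SetLike.not_le_iff_exists.1 hX'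
    obtain ⟨ya, yb, -⟩ := mem_N y (hX hy) hy'
    intro σ hσ
    by_cases h : σ ∈ N0
    · exact Subgroup.mem_sup_right h
    · obtain ⟨sa, -, -⟩ := mem_N σ hσ h
      have h2 : y⁻¹ * σ ∈ N0 := ⟨mul_mem (inv_mem (hX hy)) hσ, by
        rw [Perm.mul_apply, sa, Perm.inv_eq_iff_eq]; exact ya.symm⟩
      have := mul_mem (Subgroup.mem_sup_left hy) (Subgroup.mem_sup_right h2 : y⁻¹ * σ ∈ X ⊔ N0)
      rwa [mul_inv_cancel_left] at this

end Perm

end CfsgLib.QTPush
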