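import Cfsg.Agent.Lib.BlockPush.Struct
import Cfsg.Agent.Lib.QTPush.Odd
import Cfsg.Agent.Lib.QTPush.RootModel

/-!
The root data of one component of a minimal group with blocks, for the prime 2.
-/

set_option autoImplicit false
set_option linter.unusedSectionVars false
set_option linter.style.haveILetI false

namespace CfsgLib.QTPush

open Cfsg CfsgLib CfsgLib.RootCommute CfsgLib.RootBlocks CfsgLib.BlockPush Equiv
open CfsgLib.SL2Pair (fix)
open CfsgLib.StrongFusion (cm)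
open scoped commutatorElement Pointwise

universe u

variable {G : Type u} [Group G] [Finite G]

attribute [local instance] commGroupOf

/-- The root data inside one minimal group. -/
structure LocalRoot (T : Sylow 2 G) (M : Subgroup G) (x : G) (C K : Subgroup G) : Prop where
  odd : Odd (orderOf x)
  notM : x ∉ M
  cB : C ≤ tB T
  zC : qZero T ≤ C
  wxC : wx (vQ 2 G) x ≤ Subgroup.centralizer (C : Set G)
  kle : K ≤ wx (vQ 2 G) x
  kne : ¬ wx (vQ 2 G) x ≤ K
  idx : C.relIndex (tB T) = K.relIndex (wx (vQ 2 G) x)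
  move : ∀ b ∈ tB T, b ∉ C → ∀ w ∈ wx (vQ 2 G) x, w ∉ K → ¬ Commute ⁅w, b⁆ x
  comm : ∀ b ∈ C, ⁅b, x⁆ ∈ vQ 2 G
  irr : ∀ w ∈ K, x * w * x⁻¹ ∈ K → w = 1
  coreComm : ∀ q ∈ pCore 2 G, ⁅q, x⁆ ∈ vQ 2 G
  big : ∃ A ∈ mx 2 (T : Subgroup G), tB T ≤ A ⊔ C

theorem vQ_elem2 : Elem2 (vQ 2 G) :=
  ⟨fun _ ha _ hb => vQ_comm ha hb, fun a ha => by rw [← pow_two]; exact vQ_pow ha⟩

theorem vQ_normalizer (g : G) : g ∈ Subgroup.normalizer (vQ 2 G : Set G) :=
  (Subgroup.normalizer_eq_top_iff.2 (vQ_normal (p := 2) (G := G))).ge (Subgroup.mem_top g)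

section

variable {T : Sylow 2 G} {M : Subgroup G} (c : Ctx T M) {r : ℕ} {E : Fin r → Subgroup (G ⧸ cV 2 G)}
  (L : Layout (qAct 2 G) (T.mapSurjective qC_surjective) (M.map (qC 2 G)) E)
include c L

theorem oneAt (i : Fin r) : OneAt T E i := by
  refine (c.one_or_two L i).resolve_right fun h => ?_
  obtain ⟨H, R, S, hl, F, _, _, _, f, T', X, Y, A, C, D, h2, hco⟩ := h
  have := h2.toTwo.p_eq_three hl.supp.setting (hl.supp.noChar.mild hl.supp.setting) hco
  omega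

/-- A root in the model gives root data in the group. -/
theorem exists_root_of_model (i : Fin r) {G0 : Type} [Group G0] [Finite G0] {U0 : Type} [AddCommGroup U0]
    (σ : G0 →* AddMonoid.End U0) (e : ↥(E i) ≃* G0) (ψ : Additive ↥(vQ 2 G) →+ U0)
    (hs : Function.Surjective ψ) (hk : ∀ w, ψ w = 0 ↔ w ∈ fix (qAct 2 G) (E i))
    (ha : ∀ (g : ↥(E i)) w, ψ (qAct 2 G (g : G ⧸ cV 2 G) w) = σ (e g) (ψ w)) {J0 : Subgroup G0}
    (hoffs : ∀ g : ↥(E i), (g : G ⧸ cV 2 G) ∈ offs (qAct 2 G) (T.mapSurjective qC_surjective) (E i) ↔ e g ∈ J0)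
    {ξ : G0} {N0 : Subgroup G0} {U1 L0 : AddSubgroup U0} (rm : RootModel σ J0 ξ N0 U1 L0)
    (hξ : ξ ∈ Cfsg.pResidual 2 G0)
    (hξM : ∀ g : ↥(E i), e g = ξ → (g : G ⧸ cV 2 G) ∉ M.map (qC 2 G)) :
    ∃ x C K, LocalRoot T M x C K := by
  classical
  haveI : Finite U0 := Finite.of_surjective _ hs
  -- the element
  obtain ⟨g, hg, hge⟩ := (c.blk_map L i).ge ((map_pResidualOf e (g := e.symm ξ)).1 (by
    rwa [MulEquiv.apply_symm_apply]))
  obtain ⟨n, hn⟩ := PResidual.exists_pow_coprime (p := 2) g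
  set x := (g ^ 2 ^ n) ^ 2 ^ n with hxdef
  have hxb : x ∈ blk T (E i) := pow_mem (pow_mem hg _) _
  have hodd : Odd (orderOf x) :=
    Nat.coprime_two_right.1 (hn.coprime_dvd_left (orderOf_pow_dvd _))
  have hxE : qC 2 G x ∈ E i := c.blk_image L hxb
  have h4 : (2 ^ n * 2 ^ n) % 3 = 1 := by rw [← mul_pow, Nat.pow_mod]; norm_num
  have hxg : (⟨qC 2 G x, hxE⟩ : ↥(E i)) = e.symm ξ := by
    refine Subtype.ext ?_
    show qC 2 G ((g ^ 2 ^ n) ^ 2 ^ n) = _
    rw [map_pow, map_pow, hge, ← pow_mul, ← SubmonoidClass.coe_pow, ← map_pow, ← Nat.div_add_mod (2 ^ n * 2 ^ n) 3,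
      h4, pow_succ, pow_mul, rm.cube, one_pow, one_mul]
  have hex : e ⟨qC 2 G x, hxE⟩ = ξ := by rw [hxg, MulEquiv.apply_symm_apply]
  have hnotM : x ∉ M := fun h => hξM ⟨qC 2 G x, hxE⟩ hex (Subgroup.mem_map_of_mem _ h)
  have hxV : x ∈ Subgroup.normalizer (vQ 2 G : Set G) := vQ_normalizer x
  set wX := wx (vQ 2 G) x with hwX
  have hwV : wX ≤ vQ 2 G := wx_le_of hxV
  -- the coordinates on `[V, x]`
  let φ : ↥wX →* Multiplicative U0 :=
    { toFun := fun w => Multiplicative.ofAdd (ψ (av (hwV w.2)))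
      map_one' := by
        show Multiplicative.ofAdd (ψ (0 : Additive ↥(vQ 2 G))) = 1
        rw [map_zero]; rfl
      map_mul' := fun a b => by
        show Multiplicative.ofAdd (ψ (av _)) = Multiplicative.ofAdd (ψ (av _) + ψ (av _))
        rw [← map_add, av_add] }
  have hconj : ∀ {b : G} {a : ↥(E i)}, IsPart (qAct 2 G) (E i) (qC 2 G b) a → ∀ {v : G} (hv : v ∈ vQ 2 G),
      ψ (av (vQ_normal.conj_mem v hv b)) = σ (e a) (ψ (av hv)) := by
    intro b a hba v hv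
    rw [← ha, ← sub_eq_zero, ← map_sub, hk, ← qAct_av b hv]
    exact hba.2 _
  have hxv : ∀ {v : G} (hv : v ∈ vQ 2 G), ψ (av (vQ_normal.conj_mem v hv x)) = σ ξ (ψ (av hv)) := fun {v} hv => by
    rw [hconj (a := ⟨_, hxE⟩) (L.part_self hxE) hv, hex]
  have hφc : ∀ {v : G} (hv : v ∈ vQ 2 G) (h : ⁅v, x⁆ ∈ wX),
      Multiplicative.toAdd (φ ⟨⁅v, x⁆, h⟩) = ψ (av hv) - σ ξ (ψ (av hv)) := fun {v} hv h => by
    show ψ (av (hwV h)) = _
    rw [← hxv hv, ← map_sub, av_sub]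
    refine congrArg ψ (av_eq.2 ?_)
    rw [commutatorElement_def]; group
  have hinj : Function.Injective φ := (injective_iff_map_eq_one φ).2 fun w hw => by
    have h0 : ψ (av (hwV w.2)) = 0 := congrArg Multiplicative.toAdd hw
    have h1 := (hk _).1 h0 _ hxE
    rw [qAct_av, av_eq] at h1
    refine Subtype.ext (wx_fixed vQ_elem2 hxV hodd w.2 ?_)
    exact (mul_inv_eq_iff_eq_mul.1 h1).symm
  have hrange : φ.range = AddSubgroup.toSubgroup U1 := by
    ext u
    constructor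
    · rintro ⟨w, rfl⟩
      obtain ⟨v, hv, hwv⟩ := exists_of_mem_wx vQ_elem2 hxV w.2
      show Multiplicative.toAdd (φ w) ∈ U1
      rw [show w = ⟨⁅v, x⁆, hwv ▸ w.2⟩ from Subtype.ext hwv, hφc hv, ← neg_sub]
      exact neg_mem ((rm.rng _).2 ⟨_, rfl⟩)
    · intro hu
      obtain ⟨a, haa⟩ := (rm.rng _).1 hu
      obtain ⟨y, rfl⟩ := hs a
      obtain ⟨v, hv, rfl⟩ := exists_av y
      refine ⟨⟨⁅v, x⁆, mem_wx_of_mem hv⟩⁻¹, ?_⟩
      apply Multiplicative.toAdd.injective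
      rw [map_inv, toAdd_inv, hφc hv, neg_sub]
      exact haa
  have hmemU : ∀ w : ↥wX, Multiplicative.toAdd (φ w) ∈ U1 := fun w =>
    show φ w ∈ AddSubgroup.toSubgroup U1 from hrange ▸ ⟨w, rfl⟩
  -- the parts of `B(T)`
  let θ : ↥(tB T) →* G0 := e.toMonoidHom.comp ((L.partHom i).comp
    (((qC 2 G).comp (tB T).subtype).codRestrict (⨆ j, E j) fun b => c.tB_image_mem L b.2))
  have hθpart : ∀ b : ↥(tB T), ∃ a : ↥(E i), IsPart (qAct 2 G) (E i) (qC 2 G (b : G)) a ∧ e a = θ b :=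
    fun b => ⟨_, L.isPart_partHom i ⟨qC 2 G (b : G), c.tB_image_mem L b.2⟩, rfl⟩
  have hθeq : ∀ (b : ↥(tB T)) (a : G ⧸ cV 2 G) (h : IsPart (qAct 2 G) (E i) (qC 2 G (b : G)) a),
      θ b = e ⟨a, h.1⟩ := fun b a h => by
    obtain ⟨a', ha', hae⟩ := hθpart b
    rw [← hae]
    exact congrArg e (Subtype.ext (L.part_unique ha' h))
  have hθJ : ∀ b : ↥(tB T), θ b ∈ J0 := fun b => by
    obtain ⟨a', ha', hae⟩ := hθpart b
    rw [← hae, ← hoffs]
    exact c.tB_part L b.2 ha'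
  have hθrange : θ.range = J0 := by
    refine le_antisymm (by rintro _ ⟨b, rfl⟩; exact hθJ b) fun j hj => ?_
    have h1 := (hoffs (e.symm j)).2 (by rwa [MulEquiv.apply_symm_apply])
    obtain ⟨b, hb, hbe⟩ := (c.map_tB L).ge (L.offs_le_top i h1)
    refine ⟨⟨b, hb⟩, ?_⟩
    rw [hθeq ⟨b, hb⟩ (e.symm j : ↥(E i)) (by rw [hbe]; exact L.part_self (e.symm j).2), Subtype.coe_eta,
      MulEquiv.apply_symm_apply]
  set C := (N0.comap θ).map (tB T).subtype with hCdef
  set K := ((AddSubgroup.toSubgroup L0).comap φ).map wX.subtype with hKdef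
  have hmemC : ∀ {b : G} (hb : b ∈ tB T), b ∈ C ↔ θ ⟨b, hb⟩ ∈ N0 := fun {b} hb =>
    ⟨fun ⟨y, hy, he⟩ => by rwa [show (⟨b, hb⟩ : ↥(tB T)) = y from Subtype.ext he.symm], fun h => ⟨⟨b, hb⟩, h, rfl⟩⟩
  have hmemK : ∀ {w : G} (hw : w ∈ wX), w ∈ K ↔ Multiplicative.toAdd (φ ⟨w, hw⟩) ∈ L0 := fun {w} hw =>
    ⟨fun ⟨y, hy, he⟩ => by rw [show (⟨w, hw⟩ : ↥wX) = y from Subtype.ext he.symm]; exact hy,
      fun h => ⟨⟨w, hw⟩, h, rfl⟩⟩
  have hCB : C ≤ tB T := Subgroup.map_subtype_le _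
  have hidxC : C.relIndex (tB T) = N0.relIndex J0 := by
    rw [hCdef, Subgroup.relIndex, Subgroup.subgroupOf, Subgroup.comap_map_eq_self_of_injective
      (tB T).subtype_injective, Subgroup.index_comap, hθrange]
  have hidxK : K.relIndex wX = L0.relIndex U1 := by
    rw [hKdef, Subgroup.relIndex, Subgroup.subgroupOf, Subgroup.comap_map_eq_self_of_injective
      wX.subtype_injective, Subgroup.index_comap, hrange, AddSubgroup.relIndex_toSubgroup]
  have hbconj : ∀ {b : G} (hb : b ∈ tB T) {w : G} (hw : w ∈ wX),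
      ψ (av (vQ_normal.conj_mem w (hwV hw) b)) = σ (θ ⟨b, hb⟩) (Multiplicative.toAdd (φ ⟨w, hw⟩)) := by
    intro b hb w hw
    obtain ⟨a, ha', hae⟩ := hθpart ⟨b, hb⟩
    rw [hconj ha' (hwV hw), hae]
    rfl
  have hone : blk T (E i) ⊓ pCore 2 G = wComp (E i) := c.core_one L (oneAt c L i)
  have hcomm : ∀ b ∈ C, ⁅b, x⁆ ∈ vQ 2 G := by
    intro b hb
    have hbB := hCB hb
    have hθb := (hmemC hbB).1 hb
    refine wComp_le_vQ _ (hone.le (Subgroup.mem_inf.2 ⟨?_, (c.mem_core_iff L).2 ?_⟩))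
    · exact mul_mem ((Subgroup.mem_normalizer_iff.1
        (c.blk_normalizer L i (c.offs_top_norm L i (c.tB_le_gZero L hbB))) x).1 hxb) (inv_mem hxb)
    · obtain ⟨a, ha', hae⟩ := hθpart ⟨b, hbB⟩
      have h1 : a * ⟨qC 2 G x, hxE⟩ * a⁻¹ = (⟨qC 2 G x, hxE⟩ : ↥(E i)) := e.injective (by
        rw [map_mul, map_mul, map_inv, hex, hae, rm.ncomm _ hθb, mul_inv_cancel_right])
      rw [commutatorElement_def, map_mul, map_mul, map_mul, map_inv, map_inv,
        L.conj_part (c.tB_image_mem L hbB) ha' hxE]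
      have h2 : (a : G ⧸ cV 2 G) * qC 2 G x * (a : G ⧸ cV 2 G)⁻¹ = qC 2 G x := congrArg Subtype.val h1
      rw [h2, mul_inv_cancel]
  refine ⟨x, C, K, hodd, hnotM, hCB, ?_, ?_, Subgroup.map_subtype_le _, ?_, ?_, ?_, hcomm, ?_, ?_, ?_⟩
  · intro b hb
    have h := (c.mem_nComp L).1 (c.qZero_le_nComp L i hb)
    rw [hmemC h.1, hθeq ⟨b, h.1⟩ 1 h.2]
    exact (show e ⟨1, _⟩ = 1 from map_one e) ▸ one_mem N0
  · refine fun w hw => Subgroup.mem_centralizer_iff.2 fun b hb => ?_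
    have hbB := hCB hb
    have hbw : b * w * b⁻¹ ∈ wX := by
      obtain ⟨v, hv, rfl⟩ := exists_of_mem_wx vQ_elem2 hxV hw
      have hd := hcomm b hb
      have hv' := vQ_normal.conj_mem v hv b
      have hcd : Commute ⁅b, x⁆ (b * v * b⁻¹) := vQ_comm hd hv'
      have e1 : b * ⁅v, x⁆ * b⁻¹ = ⁅b * v * b⁻¹, ⁅b, x⁆ * x⁆ := by
        rw [conjugate_commutatorElement]; congr 1; simp only [commutatorElement_def]; group
      have e2 : ⁅b * v * b⁻¹, ⁅b, x⁆ * x⁆ = ⁅b * v * b⁻¹, ⁅b, x⁆⁆ * (⁅b, x⁆ * ⁅b * v * b⁻¹, x⁆ * ⁅b, x⁆⁻¹) := by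
        simp only [commutatorElement_def]; group
      rw [e1, e2, commutatorElement_eq_one_iff_mul_comm.2 hcd.symm.eq, one_mul,
        vQ_comm hd (hwV (mem_wx_of_mem hv')), mul_inv_cancel_right]
      exact mem_wx_of_mem hv'
    have he : φ ⟨b * w * b⁻¹, hbw⟩ = φ ⟨w, hw⟩ := Multiplicative.toAdd.injective (by
      show ψ (av _) = _
      rw [hbconj hbB hw, rm.nfix _ ((hmemC hbB).1 hb) _ (hmemU _)])
    exact mul_inv_eq_iff_eq_mul.1 (congrArg Subtype.val (hinj he))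
  · intro h
    refine rm.lne fun u hu => ?_
    obtain ⟨w, hw⟩ := hrange.ge (show Multiplicative.ofAdd u ∈ AddSubgroup.toSubgroup U1 from hu)
    have := (hmemK w.2).1 (h w.2)
    rwa [hw] at this
  · rw [hidxC, hidxK, rm.idx]
  · intro b hb hbC w hw hwK hc
    have hd : ⁅w, b⁆ ∈ vQ 2 G := by
      rw [commutatorElement_def, mul_assoc, mul_assoc, ← mul_assoc b]
      exact mul_mem (hwV hw) (vQ_normal.conj_mem _ (inv_mem (hwV hw)) b)
    set u := Multiplicative.toAdd (φ ⟨w, hw⟩) with hu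
    have e1 : ψ (av hd) = u - σ (θ ⟨b, hb⟩) u := by
      rw [← hbconj hb hw, hu]
      show _ = ψ (av (hwV hw)) - _
      rw [← map_sub, av_sub]
      refine congrArg ψ (av_eq.2 ?_)
      rw [commutatorElement_def]; group
    have e2 : σ ξ (ψ (av hd)) = ψ (av hd) := by
      rw [← hxv hd]
      refine congrArg ψ (av_eq.2 ?_)
      rw [← hc.eq, mul_inv_cancel_right]
    refine rm.move _ (hθJ ⟨b, hb⟩) (fun h => hbC ((hmemC hb).2 h)) u (hmemU _)
      (fun h => hwK ((hmemK hw).2 h)) ?_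
    rw [e1, map_sub] at e2
    rw [← neg_sub u, map_neg, map_sub, e2]
  · intro w hw hxw
    obtain ⟨w', hw', rfl⟩ := hw
    have h1 := (hmemK (Subgroup.map_subtype_le _ hxw)).1 hxw
    change ψ (av (hwV (Subgroup.map_subtype_le _ hxw))) ∈ L0 at h1
    have h2 : av (hwV (Subgroup.map_subtype_le _ hxw)) = av (vQ_normal.conj_mem (w' : G) (hwV w'.2) x) :=
      av_eq.2 rfl
    rw [h2, hxv (hwV w'.2)] at h1
    have h0 := rm.irr _ hw' h1
    exact congrArg Subtype.val (hinj (h0.trans (map_one φ).symm) : w' = 1)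
  · intro q hq
    have h := inv_mem (c.quiet_of_oneAt L (oneAt c L i) x (Nat.coprime_two_right.2 hodd) q hq)
    rwa [show (x * q * x⁻¹ * q⁻¹)⁻¹ = ⁅q, x⁆ by rw [commutatorElement_def]; group] at h
  · obtain ⟨A, hA, hAC⟩ : ∃ A ∈ mx 2 (T : Subgroup G), ¬ A ≤ C := by
      by_contra hno
      push Not at hno
      have hBC : tB T ≤ C := by
        rw [c.tB_eq L]
        refine sup_le (by rw [tJ_eq]; exact sSup_le hno) fun b hb => ?_
        have h := (c.mem_nComp L).1 (c.qZero_le_nComp L i hb)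
        rw [hmemC h.1, hθeq ⟨b, h.1⟩ 1 h.2]
        exact (show e ⟨1, _⟩ = 1 from map_one e) ▸ one_mem N0
      have h1 := Subgroup.relIndex_eq_one.2 hBC
      rw [hidxC, rm.idx] at h1
      exact rm.lne (AddSubgroup.relIndex_eq_one.1 h1)
    refine ⟨A, hA, ?_⟩
    have hAB : A ≤ tB T := (le_tJ hA).trans (tJ_le_tB T)
    set X := (A.subgroupOf (tB T)).map θ with hX
    obtain ⟨hel, hT', hmu⟩ := c.mx_image hA
    obtain ⟨-, hparts, hfacts⟩ := L.offender_facts hT' hel hmu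
    set A' := A.map (qC 2 G) with hA'
    have hXe : X = ((A' ⊓ E i).subgroupOf (E i)).map e.toMonoidHom := by
      ext y
      constructor
      · rintro ⟨b, hb, rfl⟩
        obtain ⟨z, hz, hzA, -⟩ := hfacts _ (Subgroup.mem_map_of_mem (qC 2 G) (show (b : G) ∈ A from hb)) i
        exact ⟨⟨z, hz.1⟩, Subgroup.mem_inf.2 ⟨hzA, hz.1⟩, (hθeq b z hz).symm⟩
      · rintro ⟨z, hz, rfl⟩
        obtain ⟨⟨a, haA, hae⟩, hzE⟩ := Subgroup.mem_inf.1 (show (z : G ⧸ cV 2 G) ∈ A' ⊓ E i from hz)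
        refine ⟨⟨a, hAB haA⟩, haA, ?_⟩
        rw [hθeq ⟨a, hAB haA⟩ (z : G ⧸ cV 2 G) (by rw [hae]; exact L.part_self hzE)]
        rfl
    have hXJ : X ≤ J0 := by rintro _ ⟨b, -, rfl⟩; exact hθJ b
    have hXN : ¬ X ≤ N0 := fun h => hAC fun a ha => (hmemC (hAB ha)).2 (h ⟨⟨a, hAB ha⟩, ha, rfl⟩)
    have hcard : Nat.card U0 ≤ Nat.card X * Nat.card (fix σ X) := by
      have hW : Nat.card (Additive ↥(vQ 2 G)) = Nat.card ψ.ker * Nat.card U0 := by
        have h := ψ.ker.card_mul_index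
        rw [AddSubgroup.index_ker, AddMonoidHom.range_eq_top.2 hs, AddSubgroup.card_top] at h
        exact h.symm
      have hle : fix (qAct 2 G) (A' ⊓ E i) ≤ (fix σ X).comap ψ := fun w hw => by
        rw [AddSubgroup.mem_comap, hXe]
        rintro _ ⟨z, hz, rfl⟩
        show σ (e z) (ψ w) = ψ w
        rw [← ha, hw (z : G ⧸ cV 2 G) hz]
      have hcm : Nat.card ↥((fix σ X).comap ψ) = Nat.card ψ.ker * Nat.card (fix σ X) := by
        have h := ((fix σ X).comap ψ).card_mul_index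
        rw [AddSubgroup.index_comap_of_surjective _ hs, hW] at h
        refine Nat.eq_of_mul_eq_mul_right (Nat.pos_of_ne_zero (fix σ X).index_ne_zero_of_finite) ?_
        rw [h, mul_assoc, AddSubgroup.card_mul_index]
      refine Nat.le_of_mul_le_mul_left ?_ (Nat.card_pos (α := ψ.ker))
      rw [← hW, mul_left_comm, ← hcm]
      refine (hparts i).trans ?_
      rw [hXe, Subgroup.card_map_of_injective e.injective,
        Nat.card_congr (Subgroup.subgroupOfEquivOfLe (inf_le_right : A' ⊓ E i ≤ E i)).toEquiv]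
      refine Nat.mul_le_mul_left _ (Nat.card_le_card_of_injective _ (AddSubgroup.inclusion_injective ?_))
      rw [← hXe]
      exact hle
    have hJ := rm.big X hXJ hXN hcard
    intro b hb
    have hNr : N0 ≤ θ.range := hθrange.symm ▸ rm.nle
    have hb' : θ ⟨b, hb⟩ ∈ (A.subgroupOf (tB T) ⊔ N0.comap θ).map θ := by
      rw [Subgroup.map_sup, Subgroup.map_comap_eq_self hNr]
      exact hJ (hθJ _)
    obtain ⟨y, hy, hye⟩ := hb'
    have hk' : y⁻¹ * ⟨b, hb⟩ ∈ A.subgroupOf (tB T) ⊔ N0.comap θ := by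
      refine Subgroup.mem_sup_right ?_
      rw [Subgroup.mem_comap, map_mul, map_inv, hye, inv_mul_cancel]
      exact one_mem _
    have hall := mul_mem hy hk'
    rw [mul_inv_cancel_left] at hall
    have := Subgroup.mem_map_of_mem (tB T).subtype hall
    rw [Subgroup.map_sup, Subgroup.map_subgroupOf_eq_of_le hAB] at this
    exact this

/-- Every component has a root. -/
theorem exists_root (i : Fin r) : ∃ x C K, LocalRoot T M x C K := by
  classical
  rcases L.kind i with ⟨F, iF, iF', n, e, ψ, hn, hcard, hch, hs, hk, ha, hT, hoffs⟩ |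
    ⟨n, e, ψ, μ, -, hn, hs, hk, ha, hμ, hsw, hoffs⟩
  · haveI := hch
    refine exists_root_of_model c L i natSL e ψ hs hk ha hoffs rootModel_sl ?_ fun g hge hgM => ?_
    · rw [pResidual_sl]
      refine coprime_mem_derived 2 (Nat.Coprime.coprime_dvd_left (orderOf_dvd_of_pow_eq_one slThree_cube) ?_)
      decide
    · have h := c.upper_of_M L e hT g hgM
      rw [hge, slThree_low] at h
      exact one_ne_zero h
  · obtain ⟨z, hz⟩ := pairing_point hμ (odd_card hn)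
    haveI : Nontrivial (Fin (2 ^ n + 1)) := Fintype.one_lt_card_iff_nontrivial.1 (by
      rw [Fintype.card_fin]; have := Nat.pow_le_pow_right (n := 2) two_pos hn; omega)
    obtain ⟨a, ha'⟩ := exists_ne z
    obtain ⟨N0, U1, L0, rm⟩ := rootModel_perm hμ hz ha'
    have hba : μ a ≠ a := pairing_moves hμ hz ha'
    have hbz : μ a ≠ z := fun e' => ha' (by rw [← hμ.invol a, e', hz])
    have h3 := Perm.isThreeCycle_swap_mul_swap_same hba.symm ha' hbz
    refine exists_root_of_model c L i natPerm e ψ hs hk ha hoffs rm ?_ fun g hge hgM => ?_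
    · rw [pResidual_perm]
      exact h3.mem_alternatingGroup
    · have h := c.fixes_of_M L hn rfl e hμ hz hsw ψ hk ha g hgM
      rw [hge, Perm.mul_apply, swap_apply_right, swap_apply_left] at h
      exact hbz h

end

end CfsgLib.QTPush
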