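import Cfsg.Prelude.Def_Quasithin
import Cfsg.Agent.Lib.BlockPush.Struct
import Cfsg.Agent.Lib.Baumann.BlockConj
import Cfsg.Agent.Lib.StrongFusion.Stable
import Cfsg.Agent.Lib.RootBlocks.LocalStarStar

/-!
Two overgroups of a Sylow 2-subgroup in a group of even characteristic: the basic facts.
-/

set_option autoImplicit false
set_option linter.unusedSectionVars false

namespace CfsgLib.QTPush

open Cfsg CfsgLib
open scoped commutatorElement Pointwise

universe u

variable {G : Type u} [Group G] [Finite G]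

theorem le_pCoreOf {H O : Subgroup G} (hO : O ≤ H) (hn : H ≤ Subgroup.normalizer (O : Set G)) (hp : IsPGroup 2 O) :
    O ≤ pCoreOf 2 H := by
  haveI := (Subgroup.normal_subgroupOf_iff_le_normalizer hO).2 hn
  intro x hx
  exact ⟨⟨x, hO hx⟩, le_pCore (hp.of_equiv (Subgroup.subgroupOfEquivOfLe hO).symm) (show (⟨x, hO hx⟩ : ↥H) ∈
    O.subgroupOf H from hx), rfl⟩

theorem normalizer_pCoreOf (H : Subgroup G) : H ≤ Subgroup.normalizer (pCoreOf 2 H : Set G) := by
  intro g hg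
  exact Subgroup.le_normalizer_map H.subtype ⟨⟨g, hg⟩,
    (Subgroup.normalizer_eq_top (H := pCore 2 ↥H)).ge (Subgroup.mem_top _), rfl⟩

theorem isPGroup_pCoreOf (H : Subgroup G) : IsPGroup 2 (pCoreOf 2 H) := (isPGroup_pCore 2).map _

theorem pCoreOf_le_sylow (T : Sylow 2 G) {H : Subgroup G} (hTH : (T : Subgroup G) ≤ H) :
    pCoreOf 2 H ≤ (T : Subgroup G) := by
  rintro _ ⟨x, hx, rfl⟩
  exact pCore_le_sylow (T.subtype hTH) hx

/-- What normalizes a subgroup normalizes its Baumann subgroup. -/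
theorem normalizer_le_baumann (R : Subgroup G) :
    Subgroup.normalizer (R : Set G) ≤ Subgroup.normalizer (baumannSubgroupOf 2 R : Set G) := by
  intro g hg
  rw [Subgroup.mem_normalizer_iff_map_conj_eq] at hg ⊢
  have h := BBlock.baumannSubgroupOf_map_aut (p := 2) (MulAut.conj g).toMonoidHom (MulAut.conj g).bijective R
  exact h.symm.trans (congrArg (baumannSubgroupOf 2) hg)

theorem normalizer_le_zJ (R : Subgroup G) :
    Subgroup.normalizer (R : Set G) ≤
      Subgroup.normalizer (omegaOne 2 (centerThompsonOf 2 R) : Set G) := by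
  intro g hg
  show g ∈ Subgroup.normalizer (omegaOneCenter 2 (thompsonSubgroupOf 2 R) : Set G)
  refine BBlock.normalizer_le_normalizer_omegaOneCenter 2 _ ?_
  rw [Subgroup.mem_normalizer_iff_map_conj_eq] at hg ⊢
  have h := PLocal.thompsonSubgroupOf_map (p := 2) (S := R) (MulAut.conj g).toMonoidHom
    (fun _ _ _ _ h => (MulAut.conj g).injective h)
  exact h.trans (congrArg (thompsonSubgroupOf 2) hg)

theorem zJ_map {K : Type u} [Group K] [Finite K] {f : K →* G} (hf : Function.Injective f) (R : Subgroup K) :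
    omegaOne 2 (centerThompsonOf 2 (R.map f)) = (omegaOne 2 (centerThompsonOf 2 R)).map f := by
  show omegaOneCenter 2 (thompsonSubgroupOf 2 (R.map f)) = _
  rw [← PLocal.thompsonSubgroupOf_map (p := 2) f fun _ _ _ _ h => hf h, BlockPush.omegaOneCenter_map_inj hf]
  rfl

theorem baumann_map {K : Type u} [Group K] [Finite K] {f : K →* G} (hf : Function.Injective f) (R : Subgroup K) :
    baumannSubgroupOf 2 (R.map f) = (baumannSubgroupOf 2 R).map f := by
  rw [baumannSubgroupOf, baumannSubgroupOf, zJ_map hf, BlockPush.inf_centralizer_map_inj hf]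

theorem omegaOneCenter_ne_bot {R : Subgroup G} (hR : IsPGroup 2 R) (h : R ≠ ⊥) : omegaOneCenter 2 R ≠ ⊥ := by
  haveI : Nontrivial R := (Subgroup.nontrivial_iff_ne_bot R).2 h
  refine StrongFusion.omegaOne_ne_bot (hR.to_le inf_le_left) fun e => ?_
  haveI := hR.center_nontrivial
  obtain ⟨z, hz⟩ := exists_ne (1 : Subgroup.center ↥R)
  refine hz (Subtype.ext (Subtype.ext ?_))
  have h1 : ((z : ↥R) : G) ∈ R ⊓ Subgroup.centralizer (R : Set G) := ⟨(z : ↥R).2, Subgroup.mem_centralizer_iff.2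
    fun y hy => congrArg Subtype.val (Subgroup.mem_center_iff.1 z.2 ⟨y, hy⟩)⟩
  rw [e, Subgroup.mem_bot] at h1
  exact h1

theorem mem_of_odd {K : Subgroup G} {x : G} (hx : Odd (orderOf x)) {k : ℕ} (h : x ^ 2 ^ k ∈ K) : x ∈ K := by
  have hc : (orderOf x).Coprime (2 ^ k) := (Nat.coprime_two_right.2 hx).pow_right k
  obtain ⟨m, hm⟩ := exists_pow_eq_self_of_coprime hc.symm
  rw [← hm]
  exact pow_mem h m

/-- An element of odd order acting trivially on a chain of length two. -/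
theorem commute_of_chain {q y : G} (hy : Odd (orderOf y)) {k : ℕ} (hk : ⁅q, y⁆ ^ 2 ^ k = 1)
    (hc : Commute ⁅q, y⁆ y) : Commute q y := by
  set d := ⁅q, y⁆ with hd
  have h1 : q * y * q⁻¹ = d * y := by rw [hd, commutatorElement_def]; group
  have h2 : (d * y) ^ orderOf y = 1 := by rw [← h1, conj_pow, pow_orderOf_eq_one, mul_one, mul_inv_cancel]
  rw [hc.mul_pow, pow_orderOf_eq_one, mul_one] at h2
  have hd1 : d = 1 := orderOf_eq_one_iff.1 (Nat.dvd_one.1 ((Nat.coprime_two_right.2 hy).pow_right k ▸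
    Nat.dvd_gcd (orderOf_dvd_of_pow_eq_one h2) (orderOf_dvd_of_pow_eq_one hk)))
  exact commutatorElement_eq_one_iff_commute.1 hd1

/-- An overgroup of a Sylow subgroup with one maximal subgroup over it. -/
structure Env (T : Sylow 2 G) (H MH : Subgroup G) : Prop where
  tH : (T : Subgroup G) ≤ H
  tM : (T : Subgroup G) ≤ MH
  mhH : MH ≤ H
  mne : ¬ H ≤ MH
  uniq : ∀ Z : Subgroup G, (T : Subgroup G) ≤ Z → Z ≤ H → Z ≠ H → Z ≤ MH
  char2 : Subgroup.centralizer (pCoreOf 2 H : Set G) ⊓ H ≤ pCoreOf 2 H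

namespace Env

variable {T : Sylow 2 G} {H MH : Subgroup G} (v : Env T H MH)
include v

theorem eq_of_not_le {Z : Subgroup G} (hT : (T : Subgroup G) ≤ Z) (hZ : Z ≤ H) (h : ¬ Z ≤ MH) : Z = H := by
  by_contra hne
  exact h (v.uniq Z hT hZ hne)

theorem gen {x : G} (hx : x ∈ H) (hxM : x ∉ MH) : H ≤ (T : Subgroup G) ⊔ Subgroup.zpowers x :=
  (v.eq_of_not_le le_sup_left (sup_le v.tH (Subgroup.zpowers_le.2 hx))
    fun h => hxM (h (Subgroup.mem_sup_right (Subgroup.mem_zpowers x)))).ge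

/-- A normal subgroup not containing some odd element outside `MH` meets `T` inside the core. -/
theorem inf_le_core {K : Subgroup G} (hKH : K ≤ H) (hKn : H ≤ Subgroup.normalizer (K : Set G)) {x : G} (hx : x ∈ H)
    (hodd : Odd (orderOf x)) (hxK : x ∉ K) : (T : Subgroup G) ⊓ K ≤ pCoreOf 2 H := by
  haveI := (Subgroup.normal_subgroupOf_iff_le_normalizer hKH).2 hKn
  set T' := T.subtype v.tH
  have hTn : (T : Subgroup G) ≤ Subgroup.normalizer (((T : Subgroup G) ⊓ K : Subgroup G) : Set G) := fun t ht =>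
    ZJFailure.mem_normalizer_of_forall fun y hy => Subgroup.mem_inf.2
      ⟨mul_mem (mul_mem ht hy.1) (inv_mem ht), (Subgroup.mem_normalizer_iff.1 (hKn (v.tH ht)) y).1 hy.2⟩
  have hKM : K ≤ MH := by
    by_contra hKM
    have hsup : (T : Subgroup G) ⊔ K = H :=
      v.eq_of_not_le le_sup_left (sup_le v.tH hKH) fun h => hKM (le_sup_right.trans h)
    have hxs : x ∈ (T : Subgroup G) ⊔ K := hsup.symm ▸ hx
    rw [← SetLike.mem_coe, Subgroup.coe_mul_of_left_le_normalizer_right _ _ (v.tH.trans hKn)] at hxs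
    obtain ⟨t, ht, k, hk, hxtk⟩ := hxs
    change t * k = x at hxtk
    obtain ⟨j, hj⟩ := T.2 ⟨t, ht⟩
    refine hxK (mem_of_odd hodd (k := j) ?_)
    have hq : QuotientGroup.mk' (K.subgroupOf H) (⟨x, hx⟩ : ↥H) =
        QuotientGroup.mk' (K.subgroupOf H) ⟨t, v.tH ht⟩ := by
      rw [show (⟨x, hx⟩ : ↥H) = ⟨t, v.tH ht⟩ * ⟨k, hKH hk⟩ from Subtype.ext hxtk.symm, map_mul,
        show QuotientGroup.mk' (K.subgroupOf H) (⟨k, hKH hk⟩ : ↥H) = 1 from (QuotientGroup.eq_one_iff _).2 hk, mul_one]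
    have h1 : QuotientGroup.mk' (K.subgroupOf H) ((⟨x, hx⟩ : ↥H) ^ 2 ^ j) = 1 := by
      rw [map_pow, hq, ← map_pow, show (⟨t, v.tH ht⟩ : ↥H) ^ 2 ^ j = 1 from
        Subtype.ext (by simpa using congrArg Subtype.val hj), map_one]
    exact (QuotientGroup.eq_one_iff (N := K.subgroupOf H) ((⟨x, hx⟩ : ↥H) ^ 2 ^ j)).1 h1
  set N := Subgroup.normalizer (((T : Subgroup G) ⊓ K : Subgroup G) : Set G)
  have hNH : H ≤ N := by
    by_contra hne
    have hNM : N ⊓ H ≤ MH := v.uniq _ (le_inf hTn v.tH) inf_le_right fun e => hne (e ▸ inf_le_left)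
    refine v.mne fun g hg => ?_
    have hfr := RootBlocks.frattini_inf T' (K := K.subgroupOf H)
    haveI : (K.subgroupOf H).Normal := inferInstance
    obtain ⟨a, ha, b, hb, e⟩ := Subgroup.mem_sup_of_normal_right.1 (hfr.ge (Subgroup.mem_top (⟨g, hg⟩ : ↥H)))
    rw [show g = (a : G) * b from (congrArg Subtype.val e).symm]
    refine mul_mem (hNM ⟨?_, a.2⟩) (hKM hb)
    refine ZJFailure.mem_normalizer_of_forall fun y hy => ?_
    have h2 := (Subgroup.mem_normalizer_iff.1 ha ⟨y, v.tH hy.1⟩).1 ⟨hy.1, hy.2⟩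
    exact ⟨h2.1, h2.2⟩
  exact le_pCoreOf (inf_le_left.trans v.tH) hNH (T.2.to_le inf_le_left)

end Env

theorem exists_env (hev : IsOfEvenCharacteristic G) (T : Sylow 2 G) {H : Subgroup G} (hTH : (T : Subgroup G) ≤ H)
    (hne : pCore 2 ↥H ≠ ⊥)
    (hU : ∃! K : Subgroup ↥H, IsCoatom K ∧ (T : Subgroup G).subgroupOf H ≤ K) : ∃ MH, Env T H MH := by
  obtain ⟨K, ⟨hK, hTK⟩, huniq⟩ := hU
  refine ⟨K.map H.subtype, hTH, fun t ht => ⟨⟨t, hTH ht⟩, hTK ht, rfl⟩, Subgroup.map_subtype_le _, fun h => ?_,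
    fun Z hTZ hZH hne' => ?_, ?_⟩
  · refine hK.1 (eq_top_iff.2 fun y _ => ?_)
    obtain ⟨z, hz, e⟩ := h y.2
    rwa [H.subtype_injective e] at hz
  · have hZ : Z.subgroupOf H ≠ ⊤ := fun e => hne' (le_antisymm hZH (Subgroup.subgroupOf_eq_top.1 e))
    obtain ⟨K', hK', hZK'⟩ := (IsCoatomic.eq_top_or_exists_le_coatom (Z.subgroupOf H)).resolve_left hZ
    have := huniq K' ⟨hK', fun t ht => hZK' (hTZ ht)⟩
    subst this
    exact fun z hz => ⟨⟨z, hZH hz⟩, hZK' hz, rfl⟩
  · set Q := pCoreOf 2 H with hQ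
    set N := Subgroup.normalizer (Q : Set G) with hN
    have hHN : H ≤ N := normalizer_pCoreOf H
    have hQne : Q ≠ ⊥ := fun e => hne ((Subgroup.map_eq_bot_iff_of_injective _ H.subtype_injective).1 e)
    have hch := hev N ⟨Q, isPGroup_pCoreOf H, hQne, rfl⟩ ⟨T, hTH.trans hHN⟩
    have hNH : pCoreOf 2 N ≤ Q := le_pCoreOf ((pCoreOf_le_sylow T (hTH.trans hHN)).trans hTH)
      (hHN.trans (normalizer_pCoreOf N)) (isPGroup_pCoreOf N)
    intro y hy
    refine hNH ⟨⟨y, hHN hy.2⟩, hch (Subgroup.mem_centralizer_iff.2 fun q hq => Subtype.ext ?_), rfl⟩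
    exact Subgroup.mem_centralizer_iff.1 hy.1 q (hNH ⟨q, hq, rfl⟩)

/-- The two-local argument. -/
theorem exists_local (hev : IsOfEvenCharacteristic G) (T : Sylow 2 G) {S : Subgroup G}
    (hS : S ≤ (T : Subgroup G)) (hne : S ≠ ⊥) (hT : (T : Subgroup G) ≤ Subgroup.normalizer (S : Set G)) :
    ∃ O : Subgroup G, O ≤ (T : Subgroup G) ∧
      Subgroup.normalizer (S : Set G) ≤ Subgroup.normalizer (O : Set G) ∧
      Subgroup.centralizer (O : Set G) ⊓ Subgroup.normalizer (S : Set G) ≤ O := by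
  have hch := hev _ ⟨S, T.2.to_le hS, hne, rfl⟩ ⟨T, hT⟩
  refine ⟨pCoreOf 2 (Subgroup.normalizer (S : Set G)), pCoreOf_le_sylow T hT, normalizer_pCoreOf _, fun y hy => ?_⟩
  refine ⟨⟨y, hy.2⟩, hch (Subgroup.mem_centralizer_iff.2 fun q hq => Subtype.ext ?_), rfl⟩
  exact Subgroup.mem_centralizer_iff.1 hy.1 q ⟨q, hq, rfl⟩

theorem odd_relIndex (T : Sylow 2 G) {M : Subgroup G} (hT : (T : Subgroup G) ≤ M) :
    Odd ((T : Subgroup G).relIndex M) := by
  rw [Nat.odd_iff]
  have h : ¬ 2 ∣ ((T.subtype hT : Subgroup ↥M)).index := (T.subtype hT).not_dvd_index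
  rw [Sylow.coe_subtype] at h
  rw [Subgroup.relIndex]
  omega

end CfsgLib.QTPush
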