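import Cfsg.Agent.Lib.QTPush.CoreNormal
import Cfsg.Agent.Lib.QTPush.Setting
import Cfsg.Agent.Lib.QTPush.FromLayout
import Mathlib.GroupTheory.Perm.Basic

/-!
A minimal parabolic group and an odd order group of automorphisms of its Sylow 2-subgroup.
-/

set_option autoImplicit false
set_option linter.unusedSectionVars false
set_option linter.style.haveILetI false

namespace CfsgLib.QTPush

open Cfsg CfsgLib CfsgLib.RootCommute CfsgLib.RootBlocks CfsgLib.BlockPush
open scoped commutatorElement Pointwise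

universe u v

variable {G : Type u} [Group G] [Finite G]

attribute [local instance] commGroupOf

/-- The root data of a minimal parabolic group, as a root. -/
theorem root_of_local {T : Sylow 2 G} {M : Subgroup G} (c : Ctx T M) {r : ℕ} {E : Fin r → Subgroup (G ⧸ cV 2 G)}
    (L : Layout (qAct 2 G) (T.mapSurjective qC_surjective) (M.map (qC 2 G)) E) {x : G} {C K : Subgroup G}
    (d : LocalRoot T M x C K) : Root (pCore 2 G) (tB T) (vQ 2 G) C x K where
  vB := fun v hv => mem_tB.2 ⟨pCore_le_sylow T (vQ_le_core hv), fun z hz =>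
    BBlock.omegaOneCenter_comm 2 _ hv ((c.xQ_le_core L) (tZ_le_xQ T hz))⟩
  vQ := vQ_le_core
  velem := vQ_elem2
  bV := fun b _ => vQ_normalizer b
  xV := vQ_normalizer x
  odd := d.odd
  cB := d.cB
  cN := fun b hb => ZJFailure.mem_normalizer_of_forall fun w hw => by
    rw [show b * w * b⁻¹ = b * w * b⁻¹ * w⁻¹ * w by group]
    exact mul_mem (d.zC (c.comm_tB L hb (d.cB hw))) hw
  wxC := d.wxC
  qB := d.zC
  kle := d.kle
  kne := d.kne
  idx := d.idx
  move := d.move
  comm := d.comm
  irr := d.irr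
  qx := fun q hq => by
    obtain ⟨u, hu, e⟩ := exists_comm_eq vQ_elem2 (vQ_normalizer x) d.odd (d.coreComm q hq)
    rw [e]
    exact mem_wx_of_mem hu
  big := by
    obtain ⟨A, hA, hAC⟩ := d.big
    refine ⟨A, (le_tJ hA).trans (tJ_le_tB T), ⟨fun a ha b hb => ?_, fun a ha => ?_⟩, fun D _ hD2 => ?_, hAC⟩
    · exact congrArg Subtype.val (hA.1.1.1.is_comm.comm ⟨a, ha⟩ ⟨b, hb⟩)
    · rw [← pow_two]; exact hA.1.1.2 a ha
    · exact hA.1.2 D ⟨⟨⟨fun a b => Subtype.ext (hD2.1 _ a.2 _ b.2)⟩⟩,
        fun a ha => by rw [pow_two]; exact hD2.2 _ ha⟩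

/-- The conjugates of the root module are centralized only inside the core. -/
theorem cap_of_ctx {T : Sylow 2 G} {M : Subgroup G} (c : Ctx T M) {x : G} {C K : Subgroup G}
    (d : LocalRoot T M x C K) {b : G} (hb : b ∈ tB T)
    (hcb : ∀ t ∈ (T : Subgroup G), b ∈ Subgroup.centralizer (cj t (wx (vQ 2 G) x) : Set G)) : b ∈ pCore 2 G := by
  have hcore : pCoreOf 2 (⊤ : Subgroup G) ≤ pCore 2 G := by
    haveI : (pCoreOf 2 (⊤ : Subgroup G)).Normal :=
      Subgroup.normalizer_eq_top_iff.1 (eq_top_iff.2 (normalizer_pCoreOf ⊤))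
    exact le_pCore (isPGroup_pCoreOf _)
  have hcore' : pCore 2 G ≤ pCoreOf 2 (⊤ : Subgroup G) := le_pCoreOf le_top
    (fun g _ => (Subgroup.normalizer_eq_top_iff.2 (inferInstance : (pCore 2 G).Normal)).ge (Subgroup.mem_top g))
    (isPGroup_pCore 2)
  have v : Env T (⊤ : Subgroup G) M :=
    ⟨le_top, c.le_M, le_top, fun h => c.M_ne (top_le_iff.1 h), fun Z h _ hne => c.uniq Z h hne,
      fun y hy => hcore' (c.charp (Subgroup.mem_centralizer_iff.2 fun q hq =>
        Subgroup.mem_centralizer_iff.1 hy.1 q (hcore' hq)))⟩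
  have hxV := vQ_normalizer (G := G) x
  set W : Subgroup G := ⨆ t : (T : Subgroup G), cj (t : G) (wx (vQ 2 G) x) with hW
  have hwW : wx (vQ 2 G) x ≤ W := by
    have h := le_iSup (fun t : (T : Subgroup G) => cj (t : G) (wx (vQ 2 G) x)) 1
    simpa [cj_one] using h
  have hWV : W ≤ vQ 2 G := iSup_le fun t => by
    have h := cj_mono (t : G) (wx_le_of hxV)
    rwa [cj_eq_of_normalizer (vQ_normalizer _)] at h
  have hWn : (⊤ : Subgroup G) ≤ Subgroup.normalizer (W : Set G) := by
    refine (v.gen (Subgroup.mem_top x) d.notM).trans (sup_le (fun t ht => ?_) (Subgroup.zpowers_le.2 ?_))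
    · refine mem_normalizer_of_cj (Subgroup.eq_of_le_of_card_ge ?_ (card_cj t W).ge)
      rw [hW, cj, Subgroup.map_iSup]
      refine iSup_le fun s => ?_
      have h := le_iSup (fun t : (T : Subgroup G) => cj (t : G) (wx (vQ 2 G) x)) (⟨t, ht⟩ * s)
      simp only [Subgroup.coe_mul, cj_mul] at h
      exact h
    · refine ZJFailure.mem_normalizer_of_forall fun w hw => ?_
      have h1 : ⁅w⁻¹, x⁆ ∈ W := hwW (mem_wx_of_mem (hWV (inv_mem hw)))
      have h2 := mul_mem hw h1
      rwa [show w * ⁅w⁻¹, x⁆ = x * w * x⁻¹ by rw [commutatorElement_def]; group] at h2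
  have hxW : x ∉ Subgroup.centralizer (W : Set G) := fun hc => d.kne fun w hw => by
    rw [wx_fixed vQ_elem2 hxV d.odd hw (Subgroup.mem_centralizer_iff.1 hc w (hwW hw))]
    exact one_mem _
  refine hcore (v.inf_le_core le_top
    (hWn.trans (BBlock.normalizer_le_normalizer_centralizer W)) (Subgroup.mem_top x) d.odd hxW ⟨(mem_tB.1 hb).1, ?_⟩)
  have hle : W ≤ Subgroup.centralizer {b} := iSup_le fun t w hw =>
    Subgroup.mem_centralizer_singleton_iff.2 (Subgroup.mem_centralizer_iff.1 (hcb t t.2) w hw)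
  exact Subgroup.mem_centralizer_iff.2 fun w hw => Subgroup.mem_centralizer_singleton_iff.1 (hle hw)

section Image

variable {W : Type v} [Group W] [Finite W] {f : G →* W}

theorem cj_map (f : G →* W) (g : G) (A : Subgroup G) : cj (f g) (A.map f) = (cj g A).map f := by
  rw [cj, cj, Subgroup.map_map, Subgroup.map_map]
  congr 1
  ext a
  simp

theorem wx_map (f : G →* W) (V : Subgroup G) (x : G) : wx (V.map f) (f x) = (wx V x).map f := by
  rw [wx, wx, MonoidHom.map_closure]
  congr 1
  ext w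
  constructor
  · rintro ⟨_, ⟨v, hv, rfl⟩, rfl⟩
    exact ⟨⁅v, x⁆, ⟨v, hv, rfl⟩, map_commutatorElement f v x⟩
  · rintro ⟨_, ⟨v, hv, rfl⟩, rfl⟩
    exact ⟨f v, ⟨v, hv, rfl⟩, map_commutatorElement f v x⟩

theorem Root.map (hf : Function.Injective f) {Q B V C K : Subgroup G} {x : G} (r : Root Q B V C x K) :
    Root (Q.map f) (B.map f) (V.map f) (C.map f) (f x) (K.map f) where
  vB := Subgroup.map_mono r.vB
  vQ := Subgroup.map_mono r.vQ
  velem := by
    refine ⟨?_, ?_⟩
    · rintro _ ⟨a, ha, rfl⟩ _ ⟨b, hb, rfl⟩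
      rw [← map_mul, ← map_mul, r.velem.1 a ha b hb]
    · rintro _ ⟨a, ha, rfl⟩
      rw [← map_mul, r.velem.2 a ha, map_one]
  bV := (Subgroup.map_mono r.bV).trans (Subgroup.le_normalizer_map f)
  xV := Subgroup.le_normalizer_map f ⟨x, r.xV, rfl⟩
  odd := by rw [orderOf_injective f hf]; exact r.odd
  cB := Subgroup.map_mono r.cB
  cN := (Subgroup.map_mono r.cN).trans (Subgroup.le_normalizer_map f)
  wxC := by
    rw [wx_map]
    rintro _ ⟨w, hw, rfl⟩
    refine Subgroup.mem_centralizer_iff.2 ?_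
    rintro _ ⟨c, hc, rfl⟩
    rw [← map_mul, ← map_mul, Subgroup.mem_centralizer_iff.1 (r.wxC hw) c hc]
  qB := by rw [← Subgroup.map_inf _ _ _ hf]; exact Subgroup.map_mono r.qB
  kle := by rw [wx_map]; exact Subgroup.map_mono r.kle
  kne := by rw [wx_map, Subgroup.map_le_map_iff_of_injective hf]; exact r.kne
  idx := by
    rw [wx_map, Subgroup.relIndex_map_map_of_injective _ _ hf, Subgroup.relIndex_map_map_of_injective _ _ hf]
    exact r.idx
  move := by
    rintro _ ⟨b, hb, rfl⟩ hbC w hw hwK hc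
    rw [wx_map] at hw
    obtain ⟨w', hw', rfl⟩ := hw
    refine r.move b hb (fun h => hbC ⟨b, h, rfl⟩) w' hw' (fun h => hwK ⟨w', h, rfl⟩) (hf ?_)
    rw [map_mul, map_mul, map_commutatorElement]
    exact hc.eq
  comm := by
    rintro _ ⟨c, hc, rfl⟩
    exact ⟨_, r.comm c hc, map_commutatorElement f c x⟩
  irr := by
    rintro _ ⟨w, hw, rfl⟩ hxw
    obtain ⟨y, hy, e⟩ := hxw
    have h1 : x * w * x⁻¹ = y := hf (by rw [e, map_mul, map_mul, map_inv])
    rw [r.irr w hw (h1 ▸ hy), map_one]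
  qx := by
    rintro _ ⟨q, hq, rfl⟩
    rw [wx_map]
    exact ⟨_, r.qx q hq, map_commutatorElement f q x⟩
  big := by
    obtain ⟨A, hAB, hA, hmax, hBA⟩ := r.big
    refine ⟨A.map f, Subgroup.map_mono hAB, ⟨?_, ?_⟩, fun D hD hD2 => ?_, ?_⟩
    · rintro _ ⟨a, ha, rfl⟩ _ ⟨b, hb, rfl⟩
      rw [← map_mul, ← map_mul, hA.1 a ha b hb]
    · rintro _ ⟨a, ha, rfl⟩
      rw [← map_mul, hA.2 a ha, map_one]
    · have hD' : D.comap f ≤ B := fun d hd => by
        obtain ⟨b, hb, e⟩ := hD hd
        rwa [← hf e]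
      have hel : Elem2 (D.comap f) := ⟨fun a ha b hb => hf (by rw [map_mul, map_mul]; exact hD2.1 _ ha _ hb),
        fun a ha => hf (by rw [map_mul, map_one]; exact hD2.2 _ ha)⟩
      have hDeq : (D.comap f).map f = D :=
        Subgroup.map_comap_eq_self (hD.trans (Subgroup.map_le_range f B))
      rw [← hDeq, Subgroup.card_map_of_injective hf, Subgroup.card_map_of_injective hf]
      exact hmax _ hD' hel
    · rw [← Subgroup.map_sup]; exact Subgroup.map_mono hBA

end Image

/-! ### The common ambient group -/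

section Ambient

variable {T : Subgroup G} (A : Subgroup (MulAut ↥T))

/-- The chosen representative of the right coset. -/
noncomputable def rep (T : Subgroup G) (h : G) : G := (Quotient.mk (QuotientGroup.rightRel T) h).out

theorem rep_mem (h : G) : h * (rep T h)⁻¹ ∈ T :=
  QuotientGroup.rightRel_apply.1 (Quotient.exact (Quotient.out_eq (Quotient.mk (QuotientGroup.rightRel T) h)))

theorem rep_mul {t : G} (ht : t ∈ T) (h : G) : rep T (t * h) = rep T h :=
  congrArg Quotient.out (Quotient.sound (QuotientGroup.rightRel_apply.2 (by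
    rw [mul_inv_rev, mul_inv_cancel_left]; exact inv_mem ht)))

/-- The part in `T`. -/
noncomputable def part (T : Subgroup G) (h : G) : ↥T := ⟨h * (rep T h)⁻¹, rep_mem h⟩

theorem part_rep (h : G) : (part T h : G) * rep T h = h := inv_mul_cancel_right h (rep T h)

theorem rep_part_mul (s : ↥T) (h : G) : rep T ((s : G) * rep T h) = rep T h := by
  rw [rep_mul s.2]
  conv_rhs => rw [← part_rep (T := T) h, rep_mul (part T h).2]

theorem part_part_mul (s : ↥T) (h : G) : part T ((s : G) * rep T h) = s := by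
  refine Subtype.ext ?_
  show (s : G) * rep T h * (rep T ((s : G) * rep T h))⁻¹ = s
  rw [rep_part_mul, mul_inv_cancel_right]

theorem part_mul (s : ↥T) (h : G) : part T ((s : G) * h) = s * part T h := by
  refine Subtype.ext ?_
  show (s : G) * h * (rep T ((s : G) * h))⁻¹ = s * (h * (rep T h)⁻¹)
  rw [rep_mul s.2, mul_assoc]

/-- Left multiplication by `G`. -/
noncomputable def ambG : G →* Equiv.Perm (G × ↥A) where
  toFun g := (Equiv.mulLeft g).prodCongr (Equiv.refl _)
  map_one' := Equiv.ext fun p => Prod.ext (one_mul p.1) rfl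
  map_mul' g g' := Equiv.ext fun p => Prod.ext (mul_assoc g g' p.1) rfl

theorem ambG_apply (g : G) (p : G × ↥A) : ambG A g p = (g * p.1, p.2) := rfl

theorem ambG_injective : Function.Injective (ambG A) := fun g g' h => by
  have h1 := congrArg (fun e : Equiv.Perm (G × ↥A) => (e (1, 1)).1) h
  simpa [ambG_apply] using h1

/-- The action of an automorphism. -/
noncomputable def actFun (b : ↥A) (p : G × ↥A) : G × ↥A :=
  ((((b : MulAut ↥T) (part T p.1) : ↥T) : G) * rep T p.1, b * p.2)

theorem actFun_mul (b b' : ↥A) (p : G × ↥A) : actFun A (b * b') p = actFun A b (actFun A b' p) := by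
  simp only [actFun, part_part_mul, rep_part_mul, Subgroup.coe_mul, MulAut.mul_apply, mul_assoc]

theorem actFun_one (p : G × ↥A) : actFun A 1 p = p := by
  refine Prod.ext ?_ (one_mul _)
  show (((1 : MulAut ↥T) (part T p.1) : ↥T) : G) * rep T p.1 = p.1
  rw [MulAut.one_apply, part_rep]

/-- The automorphisms as permutations. -/
noncomputable def ambA : ↥A →* Equiv.Perm (G × ↥A) where
  toFun b :=
    { toFun := actFun A b
      invFun := actFun A b⁻¹
      left_inv := fun p => by rw [← actFun_mul, inv_mul_cancel, actFun_one]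
      right_inv := fun p => by rw [← actFun_mul, mul_inv_cancel, actFun_one] }
  map_one' := Equiv.ext fun p => actFun_one A p
  map_mul' b b' := Equiv.ext fun p => actFun_mul A b b' p

theorem ambA_apply (b : ↥A) (p : G × ↥A) : ambA A b p = actFun A b p := rfl

theorem amb_conj (b : ↥A) (s : ↥T) :
    ambA A b * ambG A (s : G) = ambG A ((((b : MulAut ↥T) s : ↥T)) : G) * ambA A b := by
  refine Equiv.ext fun p => ?_
  rw [Equiv.Perm.mul_apply, Equiv.Perm.mul_apply, ambG_apply, ambA_apply, ambA_apply, ambG_apply, actFun, actFun]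
  refine Prod.ext ?_ rfl
  show (((b : MulAut ↥T) (part T ((s : G) * p.1)) : ↥T) : G) * rep T ((s : G) * p.1) = _
  rw [part_mul, rep_mul s.2, map_mul, Subgroup.coe_mul, mul_assoc]

end Ambient

/-- An odd order group of automorphisms of `T` leaves invariant a normal subgroup of a minimal parabolic group. -/
theorem exists_invariant {T : Sylow 2 G} {M : Subgroup G} (c : Ctx T M) (A : Subgroup (MulAut ↥(T : Subgroup G)))
    (hA : Odd (Nat.card A)) :
    ∃ U : Subgroup G, U ≠ ⊥ ∧ U.Normal ∧ U ≤ (T : Subgroup G) ∧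
      ∀ a ∈ A, ∀ x : ↥(T : Subgroup G), (x : G) ∈ U → ((a x : ↥(T : Subgroup G)) : G) ∈ U := by
  classical
  obtain ⟨r, E, hr, L⟩ := c.exists_components
  obtain ⟨x, C, K, d⟩ := exists_root c L ⟨0, hr⟩
  set f := ambG A
  have hf : Function.Injective f := ambG_injective A
  set T' := (T : Subgroup G).map f with hT'
  set A' := (ambA A).range with hA'
  have hAT : A' ≤ Subgroup.normalizer (T' : Set (Equiv.Perm (G × ↥A))) := by
    rintro _ ⟨b, rfl⟩
    refine ZJFailure.mem_normalizer_of_forall ?_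
    rintro _ ⟨s, hs, rfl⟩
    refine ⟨_, ((b : MulAut ↥(T : Subgroup G)) ⟨s, hs⟩).2, ?_⟩
    rw [eq_mul_inv_iff_mul_eq]
    exact (amb_conj A b ⟨s, hs⟩).symm
  set M₀ := T' ⊔ A' with hM₀
  have hTM : T' ≤ M₀ := le_sup_left
  have hMT : M₀ ≤ Subgroup.normalizer (T' : Set (Equiv.Perm (G × ↥A))) := sup_le Subgroup.le_normalizer hAT
  have hodd : Odd (T'.relIndex M₀) := by
    have h1 := card_mul_relIndex' hTM
    have h2 := CfsgLib.ZJ.card_mul_eq_of_le_normalizer hAT
    rw [← h1] at h2
    have hAdvd : Nat.card A' ∣ Nat.card A := Subgroup.card_range_dvd (ambA A)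
    refine hA.of_dvd_nat (Dvd.dvd.trans ⟨Nat.card ↥(T' ⊓ A'), ?_⟩ hAdvd)
    refine Nat.eq_of_mul_eq_mul_left (Nat.card_pos (α := T')) ?_
    rw [← mul_assoc]
    linarith [h2]
  have hMB : M₀ ≤ Subgroup.normalizer ((tB T).map f : Set (Equiv.Perm (G × ↥A))) := by
    rw [show (tB T).map f = baumannSubgroupOf 2 T' from (baumann_map hf _).symm]
    exact hMT.trans (normalizer_le_baumann T')
  have hTn : ∀ {X : Subgroup G}, X.Normal → T' ≤ Subgroup.normalizer (X.map f : Set (Equiv.Perm (G × ↥A))) :=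
    fun {X} hX => by
      rintro _ ⟨t, -, rfl⟩
      exact Subgroup.le_normalizer_map f ⟨t, (Subgroup.normalizer_eq_top_iff.2 hX).ge (Subgroup.mem_top t), rfl⟩
  have hgen : f.range ≤ T' ⊔ Subgroup.zpowers (f x) := by
    have h : (T : Subgroup G) ⊔ Subgroup.zpowers x = ⊤ := by
      by_contra hne
      exact d.notM (c.uniq _ le_sup_left hne (Subgroup.mem_sup_right (Subgroup.mem_zpowers x)))
    rw [MonoidHom.range_eq_map, ← h, Subgroup.map_sup, MonoidHom.map_zpowers]
  obtain ⟨R₀, hne, hRB, hn⟩ := core_normal ((root_of_local c L d).map hf) hTM hMT hMB (hTn vQ_normal)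
    (hTn inferInstance) hodd hgen (by
      rintro _ ⟨b, hb, rfl⟩ hcb
      refine ⟨b, cap_of_ctx c d hb fun t ht => ?_, rfl⟩
      have h1 := hcb (f t) ⟨t, ht, rfl⟩
      rw [wx_map, cj_map] at h1
      refine Subgroup.mem_centralizer_iff.2 fun w hw => hf ?_
      rw [map_mul, map_mul]
      exact Subgroup.mem_centralizer_iff.1 h1 _ ⟨w, hw, rfl⟩)
  have hRr : R₀ ≤ f.range := hRB.trans (Subgroup.map_le_range f _)
  refine ⟨R₀.comap f, fun e => hne ?_, ⟨fun y hy g => ?_⟩, fun y hy => ?_, fun a ha y hy => ?_⟩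
  · rw [← Subgroup.map_comap_eq_self hRr, e, Subgroup.map_bot]
  · have h1 := (Subgroup.mem_normalizer_iff.1 (hn (Subgroup.mem_sup_right (show f g ∈ f.range from ⟨g, rfl⟩))) (f y)).1 hy
    rw [Subgroup.mem_comap, map_mul, map_mul, map_inv]
    exact h1
  · obtain ⟨b, hb, e⟩ := hRB hy
    rw [← hf e]
    exact tB_le T hb
  · have h1 := (Subgroup.mem_normalizer_iff.1
      (hn (Subgroup.mem_sup_left (Subgroup.mem_sup_right (show ambA A ⟨a, ha⟩ ∈ A' from ⟨_, rfl⟩)))) (f y)).1 hy
    rw [Subgroup.mem_comap]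
    rwa [amb_conj A ⟨a, ha⟩ y, mul_inv_cancel_right] at h1

end CfsgLib.QTPush

namespace CfsgLib.QTPush

open Cfsg CfsgLib CfsgLib.BlockPush

universe u'

section Char

variable {G : Type u'} [Group G] [Finite G] (S : Subgroup G)

theorem top_map_subtype : (⊤ : Subgroup ↥S).map S.subtype = S := by
  rw [← MonoidHom.range_eq_map, Subgroup.range_subtype]

theorem char_omegaOneCenter : ((omegaOneCenter 2 S).subgroupOf S).Characteristic := by
  have h : (omegaOneCenter 2 S).subgroupOf S = omegaOneCenter 2 (⊤ : Subgroup ↥S) := by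
    conv_lhs => rw [show omegaOneCenter 2 S = omegaOneCenter 2 ((⊤ : Subgroup ↥S).map S.subtype) by
      rw [top_map_subtype], omegaOneCenter_map_inj S.subtype_injective]
    exact Subgroup.comap_map_eq_self_of_injective S.subtype_injective _
  rw [h, Subgroup.characteristic_iff_map_eq]
  intro φ
  rw [← omegaOneCenter_map_inj φ.injective, Subgroup.map_top_of_surjective _ φ.surjective]

theorem char_baumann : ((baumannSubgroupOf 2 S).subgroupOf S).Characteristic := by
  have h : (baumannSubgroupOf 2 S).subgroupOf S = baumannSubgroupOf 2 (⊤ : Subgroup ↥S) := by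
    conv_lhs => rw [show baumannSubgroupOf 2 S = baumannSubgroupOf 2 ((⊤ : Subgroup ↥S).map S.subtype) by
      rw [top_map_subtype], baumann_map S.subtype_injective]
    exact Subgroup.comap_map_eq_self_of_injective S.subtype_injective _
  rw [h, Subgroup.characteristic_iff_map_eq]
  intro φ
  rw [← baumann_map φ.injective, Subgroup.map_top_of_surjective _ φ.surjective]

theorem char_of_char_baumann (C : Subgroup G) (hC : C ≤ baumannSubgroupOf 2 S)
    (hch : (C.subgroupOf (baumannSubgroupOf 2 S)).Characteristic) : (C.subgroupOf S).Characteristic := by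
  have hB : baumannSubgroupOf 2 S ≤ S := inf_le_left
  rw [Subgroup.characteristic_iff_le_comap]
  intro φ y hy
  have hmem : ∀ (ψ : ↥S ≃* ↥S) (b : ↥(baumannSubgroupOf 2 S)),
      ((ψ ⟨b, hB b.2⟩ : ↥S) : G) ∈ baumannSubgroupOf 2 S := fun ψ b =>
    Subgroup.mem_subgroupOf.1 ((Subgroup.characteristic_iff_comap_eq.1 (char_baumann S) ψ).ge
      (show (⟨b, hB b.2⟩ : ↥S) ∈ (baumannSubgroupOf 2 S).subgroupOf S from b.2))
  let ψ : ↥(baumannSubgroupOf 2 S) ≃* ↥(baumannSubgroupOf 2 S) :=
    { toFun := fun b => ⟨_, hmem φ b⟩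
      invFun := fun b => ⟨_, hmem φ.symm b⟩
      left_inv := fun b => Subtype.ext (by simp)
      right_inv := fun b => Subtype.ext (by simp)
      map_mul' := fun a b => Subtype.ext (by
        show ((φ ⟨(a : G) * b, _⟩ : ↥S) : G) = (φ ⟨a, _⟩ : ↥S) * (φ ⟨b, _⟩ : ↥S)
        exact congrArg Subtype.val (map_mul φ ⟨(a : G), hB a.2⟩ ⟨(b : G), hB b.2⟩)) }
  have h1 := (Subgroup.characteristic_iff_comap_eq.1 hch ψ).ge
    (show (⟨(y : G), hC hy⟩ : ↥(baumannSubgroupOf 2 S)) ∈ C.subgroupOf (baumannSubgroupOf 2 S) from hy)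
  exact h1

end Char

end CfsgLib.QTPush
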