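import Cfsg.Agent.Lib.QTPush.Odd
import Mathlib.GroupTheory.Subgroup.Centralizer
import Mathlib.GroupTheory.Finiteness
import Cfsg.Agent.Lib.ZJ.Replacement
import Mathlib.Tactic.Group
import Mathlib.Tactic.Ring

/-!
Consequences of the data of one root.
-/

set_option autoImplicit false
set_option linter.unusedSectionVars false

namespace CfsgLib.QTPush

open scoped commutatorElement Pointwise

universe u

variable {G : Type u} [Group G]

theorem comm_sq (a b : G) : ⁅a, b⁆ = (a * b) * (a * b) * ((b⁻¹ * a⁻¹ * b) * (b⁻¹ * a⁻¹ * b)) * (b⁻¹ * b⁻¹) := by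
  rw [commutatorElement_def]; group

theorem elem2_comm {A : Subgroup G} (h : Elem2 A) {a b : G} (ha : a ∈ A) (hb : b ∈ A) : Commute a b := h.1 a ha b hb

theorem elem2_sup {A D : Subgroup G} (hA : Elem2 A) (hD : Elem2 D) (hc : ∀ a ∈ A, ∀ d ∈ D, a * d = d * a) :
    Elem2 (A ⊔ D) := by
  have hm : A ⊔ D = Subgroup.closure ((A : Set G) ∪ D) := by
    rw [Subgroup.closure_union, Subgroup.closure_eq, Subgroup.closure_eq]
  have hcm : ∀ x ∈ (A : Set G) ∪ D, ∀ y ∈ (A : Set G) ∪ D, x * y = y * x := by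
    rintro x (hx | hx) y (hy | hy)
    · exact hA.1 x hx y hy
    · exact hc x hx y hy
    · exact (hc y hy x hx).symm
    · exact hD.1 x hx y hy
  haveI : IsMulCommutative ↥(A ⊔ D) := by rw [hm]; exact Subgroup.isMulCommutative_closure hcm
  have hab : ∀ a ∈ A ⊔ D, ∀ b ∈ A ⊔ D, a * b = b * a := fun a ha b hb =>
    congrArg Subtype.val (IsMulCommutative.is_comm.comm (⟨a, ha⟩ : ↥(A ⊔ D)) ⟨b, hb⟩)
  refine ⟨hab, fun a ha => ?_⟩
  have ha' := ha
  rw [hm] at ha'
  induction ha' using Subgroup.closure_induction with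
  | mem y hy =>
    rcases hy with hy | hy
    · exact hA.2 y hy
    · exact hD.2 y hy
  | one => exact one_mul 1
  | mul x y hx hy e1 e2 =>
    rw [← hm] at hx hy
    rw [show x * y * (x * y) = x * (y * x) * y by group, hab y hy x hx, show x * (x * y) * y = (x * x) * (y * y) by group,
      e1 hx, e2 hy, one_mul]
  | inv x hx e1 =>
    rw [← hm] at hx
    rw [← mul_inv_rev, e1 hx, inv_one]

theorem le_normalizer_of_comm {A D : Subgroup G} (hc : ∀ a ∈ A, ∀ d ∈ D, a * d = d * a) :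
    A ≤ Subgroup.normalizer (D : Set G) := fun a ha => Subgroup.mem_normalizer_iff.2 fun d => by
  constructor
  · intro hd; rwa [hc a ha d hd, mul_inv_cancel_right]
  · intro hd
    have h := hc a ha _ hd
    rw [inv_mul_cancel_right, mul_left_cancel_iff] at h
    rwa [h] at hd

theorem card_sup_mul_card_inf (A D : Subgroup G) [Finite G] (hc : ∀ a ∈ A, ∀ d ∈ D, a * d = d * a) :
    Nat.card ↥(A ⊔ D) * Nat.card ↥(A ⊓ D) = Nat.card A * Nat.card D := by
  rw [sup_comm, inf_comm, ← CfsgLib.ZJ.card_mul_eq_of_le_normalizer (le_normalizer_of_comm hc), mul_comm]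

theorem card_mul_relIndex' [Finite G] {A D : Subgroup G} (h : A ≤ D) : Nat.card A * A.relIndex D = Nat.card D := by
  rw [← Subgroup.relIndex_bot_left, ← Subgroup.relIndex_bot_left, Subgroup.relIndex_mul_relIndex _ _ _ bot_le h]

theorem relIndex_ne_zero' [Finite G] (C D : Subgroup G) : C.relIndex D ≠ 0 := (C.subgroupOf D).index_ne_zero_of_finite

theorem eq_of_relIndex [Finite G] {C D E : Subgroup G} (hCD : C ≤ D) (hDE : D ≤ E)
    (h : C.relIndex E ≤ C.relIndex D) : D = E := by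
  refine Subgroup.eq_of_le_of_card_ge hDE ?_
  rw [← card_mul_relIndex' (hCD.trans hDE), ← card_mul_relIndex' hCD]
  exact Nat.mul_le_mul_left _ h

theorem relIndex_pos [Finite G] (C D : Subgroup G) : 0 < C.relIndex D :=
  Nat.pos_of_ne_zero (relIndex_ne_zero' C D)

/-- The centralizer of `C` in `V`. -/
abbrev wOf (V C : Subgroup G) : Subgroup G := V ⊓ Subgroup.centralizer (C : Set G)

/-- The centralizer of `B` in `V`. -/
abbrev yOf (V B : Subgroup G) : Subgroup G := V ⊓ Subgroup.centralizer (B : Set G)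

namespace Root

variable {Q B V C K : Subgroup G} {x : G} (r : Root Q B V C x K)
include r

theorem wx_le : wx V x ≤ V := (Subgroup.closure_le _).2 fun _ ⟨v, hv, e⟩ => by
  rw [e, SetLike.mem_coe, commutatorElement_def, mul_assoc, mul_assoc, ← mul_assoc x]
  exact mul_mem hv ((Subgroup.mem_normalizer_iff.1 r.xV _).1 (inv_mem hv))

theorem wx_le_w : wx V x ≤ wOf V C := le_inf r.wx_le r.wxC

theorem v_le_c : V ≤ C := (le_inf r.vQ r.vB).trans r.qB

theorem exists_out : ∃ b ∈ B, b ∉ C := by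
  by_contra h
  push Not at h
  have e : C.relIndex B = 1 := Subgroup.relIndex_eq_one.2 h
  rw [r.idx, Subgroup.relIndex_eq_one] at e
  exact r.kne e

theorem move_y {w : G} (hw : w ∈ wx V x) (hy : w ∈ yOf V B) : w ∈ K := by
  obtain ⟨b, hb, hbC⟩ := r.exists_out
  by_contra hK
  refine r.move b hb hbC w hw hK ?_
  rw [commutatorElement_eq_one_iff_mul_comm.2 (Subgroup.mem_centralizer_iff.1 hy.2 b hb).symm]
  exact Commute.one_left x

theorem b_norm_w : B ≤ Subgroup.normalizer (wOf V C : Set G) := by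
  intro b hb
  have h1 := Subgroup.mem_normalizer_iff.1 (r.bV hb)
  have h2 := Subgroup.mem_normalizer_iff.1 (r.cN hb)
  refine Subgroup.mem_normalizer_iff.2 fun w => ?_
  have key : ∀ b : G, (∀ v, v ∈ V → b * v * b⁻¹ ∈ V) → (∀ c, c ∈ C → b⁻¹ * c * b ∈ C) →
      ∀ w ∈ wOf V C, b * w * b⁻¹ ∈ wOf V C := by
    intro b hV hC w hw
    refine ⟨hV w hw.1, Subgroup.mem_centralizer_iff.2 fun c hc => ?_⟩
    have := Subgroup.mem_centralizer_iff.1 hw.2 _ (hC c hc)
    calc c * (b * w * b⁻¹) = b * ((b⁻¹ * c * b) * w) * b⁻¹ := by group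
      _ = b * (w * (b⁻¹ * c * b)) * b⁻¹ := by rw [this]
      _ = b * w * b⁻¹ * c := by group
  refine ⟨key b (fun v => (h1 v).1) (fun c hc => (h2 _).2 (by simpa [mul_assoc] using hc)) w, fun hw => ?_⟩
  have := key b⁻¹ (fun v hv => (h1 _).2 (by simpa [mul_assoc] using hv))
    (fun c hc => by simpa using (h2 c).1 hc) _ hw
  simpa [mul_assoc] using this

variable [Finite G]

theorem w_elem : Elem2 (wOf V C) :=
  ⟨fun a ha b hb => r.velem.1 a ha.1 b hb.1, fun a ha => r.velem.2 a ha.1⟩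

/-- The counting behind everything: the root group moves `W` by no more than its own size. -/
theorem facts : (yOf V B).relIndex (wOf V C) = C.relIndex B ∧ K = wx V x ⊓ yOf V B ∧
    wOf V C = wx V x ⊔ yOf V B := by
  obtain ⟨A, hAB, hA, hmax, hgen⟩ := r.big
  set W := wOf V C with hW
  set Y := yOf V B with hY
  have hWC : W ≤ C := inf_le_left.trans r.v_le_c
  have hcA : ∀ a ∈ A ⊓ C, ∀ w ∈ W, a * w = w * a := fun a ha w hw => Subgroup.mem_centralizer_iff.1 hw.2 a ha.2
  have hAC : Elem2 (A ⊓ C) := ⟨fun a ha b hb => hA.1 a ha.1 b hb.1, fun a ha => hA.2 a ha.1⟩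
  have hE := elem2_sup hAC r.w_elem hcA
  have hle := hmax _ (sup_le (inf_le_left.trans hAB) (hWC.trans r.cB)) hE
  have hcard := card_sup_mul_card_inf _ _ hcA
  have hinf : A ⊓ W ≤ Y := fun w hw => ⟨hw.2.1, by
    have h1 : B ≤ Subgroup.centralizer {w} := hgen.trans (sup_le
      (fun a ha => Subgroup.mem_centralizer_singleton_iff.2 (hA.1 a ha w hw.1))
      fun c hc => Subgroup.mem_centralizer_singleton_iff.2 (Subgroup.mem_centralizer_iff.1 hw.2.2 c hc))
    exact Subgroup.mem_centralizer_iff.2 fun b hb => Subgroup.mem_centralizer_singleton_iff.1 (h1 hb)⟩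
  have he : A ⊓ C ⊓ W = A ⊓ W := le_antisymm (inf_le_inf_right _ inf_le_left)
    (le_inf (le_inf inf_le_left (inf_le_right.trans hWC)) inf_le_right)
  rw [he] at hcard
  have h1 : (A ⊓ W).relIndex W ≤ (A ⊓ C).relIndex A := by
    have e1 := card_mul_relIndex' (inf_le_left : A ⊓ C ≤ A)
    have e2 := card_mul_relIndex' (inf_le_right : A ⊓ W ≤ W)
    refine Nat.le_of_mul_le_mul_left ?_
      (Nat.mul_pos (Nat.card_pos (α := ↥(A ⊓ C))) (Nat.card_pos (α := ↥(A ⊓ W))))
    calc Nat.card ↥(A ⊓ C) * Nat.card ↥(A ⊓ W) * (A ⊓ W).relIndex W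
        = Nat.card ↥(A ⊓ C ⊔ W) * Nat.card ↥(A ⊓ W) := by rw [hcard, ← e2]; ring
      _ ≤ Nat.card A * Nat.card ↥(A ⊓ W) := Nat.mul_le_mul_right _ hle
      _ = _ := by rw [← e1]; ring
  have h2 : (A ⊓ C).relIndex A ≤ C.relIndex B := by
    rw [Subgroup.inf_relIndex_left]
    exact Subgroup.relIndex_le_of_le_right hAB (relIndex_ne_zero' _ _)
  have h3 : Y.relIndex W ≤ (A ⊓ W).relIndex W :=
    Subgroup.relIndex_le_of_le_left hinf (relIndex_ne_zero' _ _)
  have h4 : Y.relIndex (wx V x) ≤ Y.relIndex W :=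
    Subgroup.relIndex_le_of_le_right r.wx_le_w (relIndex_ne_zero' _ _)
  have h5 : wx V x ⊓ Y ≤ K := fun w hw => r.move_y hw.1 hw.2
  have h6 : K.relIndex (wx V x) ≤ (wx V x ⊓ Y).relIndex (wx V x) :=
    Subgroup.relIndex_le_of_le_left h5 (relIndex_ne_zero' _ _)
  rw [Subgroup.inf_relIndex_left] at h6
  have hidx := r.idx
  refine ⟨by omega, ?_, ?_⟩
  · refine (Subgroup.eq_of_le_of_card_ge h5 ?_).symm
    have e1 := card_mul_relIndex' r.kle
    have e2 := card_mul_relIndex' (inf_le_left : wx V x ⊓ Y ≤ wx V x)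
    rw [Subgroup.inf_relIndex_left, ← e1] at e2
    have h7 : K.relIndex (wx V x) = Y.relIndex (wx V x) := by omega
    rw [← h7] at e2
    exact (Nat.eq_of_mul_eq_mul_right (relIndex_pos _ _) e2).ge
  · have hYW : Y ≤ W := fun w hw => ⟨hw.1, Subgroup.mem_centralizer_iff.2 fun c hc =>
      Subgroup.mem_centralizer_iff.1 hw.2 c (r.cB hc)⟩
    refine (eq_of_relIndex le_sup_right (sup_le r.wx_le_w hYW) ?_).symm
    rw [sup_comm, CfsgLib.ZJ.relIndex_sup_of_le_normalizer
      (le_normalizer_of_comm (A := wx V x) (D := Y) fun a ha w hw => r.velem.1 a (r.wx_le ha) w hw.1)]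
    show Y.relIndex W ≤ Y.relIndex (wx V x)
    omega

theorem move' {b w : G} (hb : b ∈ B) (hbC : b ∉ C) (hw : w ∈ wOf V C) (h : Commute ⁅w, b⁆ x) : w ∈ yOf V B := by
  rw [r.facts.2.2] at hw
  obtain ⟨u, hu, y, hy, rfl⟩ : ∃ u ∈ wx V x, ∃ y ∈ yOf V B, u * y = w := by
    have hn : wx V x ≤ Subgroup.normalizer (yOf V B : Set G) :=
      le_normalizer_of_comm fun a ha w hw => r.velem.1 a (r.wx_le ha) w hw.1
    rw [← SetLike.mem_coe, Subgroup.coe_mul_of_left_le_normalizer_right _ _ hn] at hw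
    obtain ⟨u, hu, y, hy, e⟩ := hw
    exact ⟨u, hu, y, hy, e⟩
  have e : ⁅u * y, b⁆ = ⁅u, b⁆ := by
    have hc : y * b = b * y := (Subgroup.mem_centralizer_iff.1 hy.2 b hb).symm
    rw [commutatorElement_def, commutatorElement_def, mul_inv_rev, show u * y * b = u * (y * b) by group, hc]
    group
  rw [e] at h
  have hK : u ∈ K := by
    by_contra hK
    exact r.move b hb hbC u hu hK h
  rw [r.facts.2.1] at hK
  exact mul_mem hK.2 hy

theorem wx_not_y : ¬ wx V x ≤ yOf V B := fun h => r.kne (by rw [r.facts.2.1]; exact le_inf le_rfl h)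

theorem mem_c_iff {b : G} (hb : b ∈ B) : b ∈ C ↔ ∀ w ∈ wOf V C, w * b = b * w := by
  refine ⟨fun h w hw => (Subgroup.mem_centralizer_iff.1 hw.2 b h).symm, fun h => ?_⟩
  by_contra hbC
  obtain ⟨u, hu, huy⟩ := SetLike.not_le_iff_exists.1 r.wx_not_y
  refine huy (r.move' hb hbC (r.wx_le_w hu) ?_)
  rw [commutatorElement_eq_one_iff_mul_comm.2 (h u (r.wx_le_w hu))]
  exact Commute.one_left x

theorem commute_sq {c : G} (hc : c ∈ C) : Commute (c * c) x := by
  have hv := r.comm c hc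
  obtain ⟨u, hu, hvv⟩ := exists_comm_eq r.velem r.xV r.odd hv
  set v := ⁅c, x⁆ with hvdef
  -- `u⁻¹ c` centralizes `x`
  have h0 : Commute (u⁻¹ * c) x := by
    rw [Commute, SemiconjBy]
    rw [hvdef, commutatorElement_def, commutatorElement_def] at hvv
    have : c * x * c⁻¹ = u * x * u⁻¹ := mul_right_cancel hvv
    calc u⁻¹ * c * x = u⁻¹ * (c * x * c⁻¹) * c := by group
      _ = u⁻¹ * (u * x * u⁻¹) * c := by rw [this]
      _ = x * (u⁻¹ * c) := by group
  have huC : u ∈ C := r.v_le_c hu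
  have hc0 : u⁻¹ * c ∈ C := mul_mem (inv_mem huC) hc
  set c0 := u⁻¹ * c with hc0def
  set u2 := c0 * u * c0⁻¹ with hu2def
  have hu2 : u2 ∈ V := (Subgroup.mem_normalizer_iff.1 (r.bV (r.cB hc0)) u).1 hu
  have hvw : v ∈ wx V x := hvv ▸ mem_wx_of_mem hu
  have e3 : ⁅u2, x⁆ = v := by
    have h1 : c0 * v = v * c0 := Subgroup.mem_centralizer_iff.1 (r.wxC hvw) c0 hc0
    calc ⁅u2, x⁆ = c0 * u * (c0⁻¹ * x * c0) * u⁻¹ * c0⁻¹ * x⁻¹ := by rw [hu2def, commutatorElement_def]; group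
      _ = c0 * u * x * u⁻¹ * (c0⁻¹ * x⁻¹) := by
        rw [show c0⁻¹ * x * c0 = x by rw [mul_assoc, ← h0.eq, inv_mul_cancel_left]]; group
      _ = c0 * (u * x * u⁻¹ * x⁻¹) * c0⁻¹ := by
        rw [show c0⁻¹ * x⁻¹ = x⁻¹ * c0⁻¹ from (h0.inv_inv).eq]; group
      _ = v := by rw [← commutatorElement_def, ← hvv, h1, mul_inv_cancel_right]
  have e4 : Commute (u * u2) x := by
    refine commutatorElement_eq_one_iff_commute.1 ?_
    have h1 : ⁅u * u2, x⁆ = u * ⁅u2, x⁆ * u⁻¹ * ⁅u, x⁆ := by simp only [commutatorElement_def]; group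
    rw [h1, e3, r.velem.1 u hu v hv, mul_inv_cancel_right, ← hvv, r.velem.2 v hv]
  have e2 : c * c = (u * u2) * (c0 * c0) := by rw [hu2def, hc0def]; group
  rw [e2]
  exact e4.mul_left (h0.mul_left h0)

end Root

end CfsgLib.QTPush
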