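import Cfsg.Agent.Lib.QTPush.Pair
import Mathlib.GroupTheory.PGroup
import Mathlib.Data.Set.Card

/-!
Pushing up: a root in one 2-local overgroup of `T`, an arbitrary overgroup normalizing the Baumann subgroup,
and no room for both.
-/

set_option autoImplicit false

namespace CfsgLib.QTPush

open scoped commutatorElement Pointwise

universe u

variable {G : Type u} [Group G] [Finite G]

theorem one_of_two_pow {x : G} (ho : Odd (orderOf x)) {n : ℕ} (h : x ^ 2 ^ n = 1) : x = 1 := by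
  have h1 : orderOf x ∣ 2 ^ n := orderOf_dvd_of_pow_eq_one h
  obtain ⟨k, -, hk⟩ := (Nat.dvd_prime_pow Nat.prime_two).1 h1
  rcases Nat.eq_zero_or_pos k with rfl | hk0
  · exact orderOf_eq_one_iff.1 (by simpa using hk)
  · rw [hk] at ho
    exact absurd ho (by simp [Nat.odd_iff, Nat.pow_mod, hk0.ne'])

section

variable {Q B V C K T M₀ H : Subgroup G} {x : G}

/-- No conjugate of the root module is moved by a conjugate of the root. -/
theorem core_nonadj (r : Root Q B V C x K) (hTM : T ≤ M₀) (hMB : M₀ ≤ Subgroup.normalizer (B : Set G))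
    (hgen : H ≤ T ⊔ Subgroup.zpowers x)
    (hcap : ∀ b ∈ B, (∀ t ∈ T, b ∈ Subgroup.centralizer (cj t (wx V x) : Set G)) → b ∈ Q)
    (hno : ∀ g ∈ M₀, ∀ t ∈ T, wOf (cj g V) (cj g C) ≤ cj t C) :
    ∃ R₀ : Subgroup G, R₀ ≠ ⊥ ∧ R₀ ≤ B ∧ M₀ ⊔ H ≤ Subgroup.normalizer (R₀ : Set G) := by
  have hsub : ∀ g ∈ M₀, cj g (wOf V C) ≤ B ⊓ Q := fun g hg w hw => by
    have hwB : w ∈ B := by
      rw [← cj_eq_of_normalizer (hMB hg)]
      exact cj_mono g r.w_le_b hw
    refine ⟨hwB, hcap w hwB fun t ht => ?_⟩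
    rw [cj_wOf] at hw
    have hwt := hno g hg t ht hw
    exact Subgroup.mem_centralizer_iff.2 fun u hu => by
      have h1 := cj_mono t r.wxC hu
      rw [cj_centralizer] at h1
      exact (Subgroup.mem_centralizer_iff.1 h1 w hwt).symm
  set R₀ : Subgroup G := ⨆ g : M₀, cj (g : G) (wOf V C) with hR₀
  have hle : R₀ ≤ B ⊓ Q := iSup_le fun g => hsub g g.2
  have hW : wOf V C ≤ R₀ := by
    have h := le_iSup (fun g : M₀ => cj (g : G) (wOf V C)) 1
    simpa [cj_one] using h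
  have hstab : ∀ g ∈ M₀, cj g R₀ ≤ R₀ := fun g hg => by
    rw [hR₀, cj, Subgroup.map_iSup]
    refine iSup_le fun k => ?_
    have h := le_iSup (fun g : M₀ => cj (g : G) (wOf V C)) (⟨g, hg⟩ * k)
    simp only [Subgroup.coe_mul, cj_mul] at h
    exact h
  have hfin : ∀ g : G, cj g R₀ ≤ R₀ → g ∈ Subgroup.normalizer (R₀ : Set G) := fun g h =>
    mem_normalizer_of_cj (Subgroup.eq_of_le_of_card_ge h (card_cj g R₀).ge)
  have hx : x ∈ Subgroup.normalizer (R₀ : Set G) := by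
    refine hfin x ?_
    rintro _ ⟨y, hy, rfl⟩
    have h1 : ⁅y⁻¹, x⁆ ∈ R₀ := hW (r.wx_le_w (r.qx _ (inv_mem (hle hy).2)))
    have h2 := mul_mem hy h1
    simpa [commutatorElement_def, mul_assoc] using h2
  refine ⟨R₀, ne_bot_of_le_ne_bot (fun e => r.kne (le_trans (r.wx_le_w.trans (le_of_eq e)) bot_le)) hW,
    hle.trans inf_le_left, sup_le (fun g hg => hfin g (hstab g hg)) ?_⟩
  exact hgen.trans (sup_le (fun t ht => hfin t (hstab t (hTM ht))) (Subgroup.zpowers_le.2 hx))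

/-- The pushing up theorem. -/
theorem core (r : Root Q B V C x K) (hTM : T ≤ M₀) (hMB : M₀ ≤ Subgroup.normalizer (B : Set G)) (hBT : B ≤ T)
    (hTV : T ≤ Subgroup.normalizer (V : Set G)) (hTQ : T ≤ Subgroup.normalizer (Q : Set G))
    (hT : IsPGroup 2 T) (hodd : Odd (T.relIndex M₀)) (hgen : H ≤ T ⊔ Subgroup.zpowers x)
    (hNloc : ∀ S : Subgroup G, S ≤ T → S ≠ ⊥ → T ≤ Subgroup.normalizer (S : Set G) → ∃ O : Subgroup G, O ≤ T ∧
      Subgroup.normalizer (S : Set G) ≤ Subgroup.normalizer (O : Set G) ∧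
      Subgroup.centralizer (O : Set G) ⊓ Subgroup.normalizer (S : Set G) ≤ O)
    (hnl : ∀ O : Subgroup G, O ≤ T → H ≤ Subgroup.normalizer (O : Set G) → O ≤ Q)
    (hcap : ∀ b ∈ B, (∀ t ∈ T, b ∈ Subgroup.centralizer (cj t (wx V x) : Set G)) → b ∈ Q) :
    ∃ R₀ : Subgroup G, R₀ ≠ ⊥ ∧ R₀ ≤ B ∧ M₀ ⊔ H ≤ Subgroup.normalizer (R₀ : Set G) := by
  by_cases hno : ∀ g ∈ M₀, ∀ t ∈ T, wOf (cj g V) (cj g C) ≤ cj t C
  · exact core_nonadj r hTM hMB hgen hcap hno
  exfalso
  push Not at hno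
  obtain ⟨g₀, hg₀, t₀, ht₀, hadj₀⟩ := hno
  have hB : ∀ g ∈ M₀, cj g B = B := fun g hg => cj_eq_of_normalizer (hMB hg)
  have R : ∀ g ∈ M₀, Root (cj g Q) B (cj g V) (cj g C) (g * x * g⁻¹) (cj g K) := fun g hg => r.conj (hB g hg)
  have hq : ∀ g ∈ M₀, ∀ h ∈ M₀, (cj g C).relIndex B = (cj h C).relIndex B := fun g hg h hh => by
    rw [← congrArg (Subgroup.relIndex (cj g C)) (hB g hg), ← congrArg (Subgroup.relIndex (cj h C)) (hB h hh),
      cj_relIndex, cj_relIndex]
  -- adjacency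
  let adj : G → G → Prop := fun g h => ¬ cj g (wOf V C) ≤ cj h C
  have adj_symm : ∀ g ∈ M₀, ∀ h ∈ M₀, adj g h → adj h g := fun g hg h hh ha e => ha (by
    rw [cj_wOf] at e ⊢
    exact (R g hg).nonadj_symm (R h hh) e)
  have adj_mul : ∀ k g h : G, adj g h → adj (k * g) (k * h) := fun k g h ha e => ha (by
    rwa [cj_mul, cj_mul, cj_le_cj] at e)
  have adj_self : ¬ adj 1 1 := fun h => h (by rw [cj_one, cj_one]; exact inf_le_left.trans r.v_le_c)
  have hadj : adj g₀ t₀ := by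
    show ¬ _ ≤ _
    rw [cj_wOf]; exact hadj₀
  have nb : ∀ g ∈ M₀, ∃ h ∈ M₀, adj g h := fun g hg =>
    ⟨g * g₀⁻¹ * t₀, mul_mem (mul_mem hg (inv_mem hg₀)) (hTM ht₀), by
      have := adj_mul (g * g₀⁻¹) g₀ t₀ hadj
      rwa [inv_mul_cancel_right] at this⟩
  -- the derived subgroup of a vertex
  let L : G → Subgroup G := fun g => cj g (lOf V B C)
  have hL : ∀ g ∈ M₀, L g = lOf (cj g V) B (cj g C) := fun g hg => by
    show cj g ⁅_, B⁆ = _
    rw [cj_commutator, cj_wOf, hB g hg]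
  have hLmul : ∀ k g : G, L (k * g) = cj k (L g) := fun k g => cj_mul k g _
  have L_edge : ∀ g ∈ M₀, ∀ h ∈ M₀, adj g h → L g = L h := fun g hg h hh ha => by
    rw [hL g hg, hL h hh]
    exact ((R h hh).l_eq_of_adj (R g hg) (hq h hh g hg) (by rw [← cj_wOf]; exact ha)).symm
  have L_cent : ∀ g ∈ M₀, ∀ h ∈ M₀, L g ≠ L h → L g ≤ Subgroup.centralizer {h * x * h⁻¹} := fun g hg h hh hne => by
    obtain ⟨g', hg', ha⟩ := nb g hg
    have h1 : ¬ adj g h := fun e => hne (L_edge g hg h hh e)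
    have h2 : ¬ adj g' h := fun e => hne ((L_edge g hg g' hg' ha).trans (L_edge g' hg' h hh e))
    simp only [adj, not_not, cj_wOf] at h1 h2
    rw [hL g hg]
    exact (R h hh).le_centralizer_of_l_eq (R g hg) (R g' hg') (hq g hg g' hg')
      (by rw [← cj_wOf]; exact adj_symm g hg g' hg' ha) h1 h2
  have L_not : ∀ g ∈ M₀, ¬ L g ≤ Subgroup.centralizer {g * x * g⁻¹} := fun g hg => by
    rw [hL g hg]; exact (R g hg).l_not_le
  have frame : ∀ t ∈ T, L t = L 1 → cj t C = C := fun t ht he => by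
    by_contra hne
    have rt : Root Q B V (cj t C) (t * x * t⁻¹) (cj t K) := by
      have := R t (hTM ht)
      rwa [cj_eq_of_normalizer (hTQ ht), cj_eq_of_normalizer (hTV ht)] at this
    have hidx : C.relIndex B = (cj t C).relIndex B := by
      have := hq 1 (one_mem _) t (hTM ht)
      rwa [cj_one] at this
    have h1 := r.same_le rt hidx (Ne.symm hne)
    have h2 : L t = lOf V B (cj t C) := by
      rw [hL t (hTM ht), cj_eq_of_normalizer (hTV ht)]
    refine L_not 1 (one_mem _) ?_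
    rw [← he, h2, one_mul, inv_one, mul_one]
    exact h1
  by_cases hall : ∀ g ∈ M₀, ∃ t ∈ T, L g = L t
  · -- every vertex sees a frame vertex's derived subgroup
    set N := Subgroup.normalizer (L 1 : Set G) with hN
    set M₁ := M₀ ⊓ N with hM₁
    have mem_M₁ : ∀ g ∈ M₀, L g = L 1 → g ∈ M₁ := fun g hg e => ⟨hg, mem_normalizer_of_cj (by
      rw [← hLmul, mul_one]; exact e)⟩
    have L_M₁ : ∀ g ∈ M₁, L g = L 1 := fun g hg => by
      rw [← mul_one g, hLmul, cj_eq_of_normalizer hg.2]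
    set T₁ := T ⊓ N with hT₁
    have hT₁W : T₁ ≤ Subgroup.normalizer (wOf V C : Set G) := fun t ht => by
      have hC := frame t ht.1 (L_M₁ t ⟨hTM ht.1, ht.2⟩)
      refine mem_normalizer_of_cj ?_
      rw [cj_wOf, hC, cj_eq_of_normalizer (hTV ht.1)]
    -- the size of the fibre is odd
    have horb : cjOrbit M₀ (L 1) = cjOrbit T (L 1) := by
      refine Set.eq_of_subset_of_subset ?_ (Set.image_mono hTM)
      rintro _ ⟨g, hg, rfl⟩
      obtain ⟨t, ht, e⟩ := hall g hg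
      refine ⟨t, ht, ?_⟩
      show cj t (L 1) = cj g (L 1)
      rw [← hLmul, ← hLmul, mul_one, mul_one, e]
    have hrel : N.relIndex M₀ = N.relIndex T := by
      rw [← ncard_cjOrbit, ← ncard_cjOrbit, horb]
    have hodd₁ : Odd (T₁.relIndex M₁) := by
      have h1 := Subgroup.relIndex_mul_relIndex T₁ T M₀ inf_le_left hTM
      have h2 := Subgroup.relIndex_mul_relIndex T₁ M₁ M₀
        (le_inf (inf_le_left.trans hTM) inf_le_right) inf_le_left
      rw [hT₁, Subgroup.inf_relIndex_left] at h1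
      rw [hM₁, Subgroup.inf_relIndex_left, hrel, ← h1, mul_comm (N.relIndex T)] at h2
      rw [Nat.eq_of_mul_eq_mul_right (relIndex_pos _ _) h2]
      exact hodd
    set Om := cjOrbit M₁ (wOf V C) with hOm
    have hOodd : Odd Om.ncard := by
      rw [hOm, ncard_cjOrbit]
      exact hodd₁.of_dvd_nat (Subgroup.relIndex_dvd_of_le_left M₁ hT₁W)
    -- and even
    obtain ⟨g₁, hg₁, ha₁⟩ := nb 1 (one_mem _)
    have hg₁M : g₁ ∈ M₁ := mem_M₁ g₁ hg₁ (L_edge 1 (one_mem _) g₁ hg₁ ha₁).symm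
    have trans' : ∀ g ∈ M₁, ∀ h ∈ M₁, ∀ k ∈ M₁, ¬ adj g h → ¬ adj k h → ¬ adj g k := fun g hg h hh k hk h1 h2 ha => by
      simp only [adj, not_not, cj_wOf] at h1 h2
      refine L_not h hh.1 ?_
      rw [L_M₁ h hh, ← L_M₁ g hg, hL g hg.1]
      exact (R h hh.1).le_centralizer_of_l_eq (R g hg.1) (R k hk.1) (hq g hg.1 k hk.1)
        (by rw [← cj_wOf]; exact adj_symm g hg.1 k hk.1 ha) h1 h2
    have notri : ∀ g ∈ M₁, ∀ h ∈ M₁, ∀ k ∈ M₁, adj g h → adj k h → ¬ adj g k := fun g hg h hh k hk h1 h2 h3 => by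
      refine (R h hh.1).no_triangle (R g hg.1) (R k hk.1) (hq h hh.1 g hg.1) (hq h hh.1 k hk.1)
        (by rw [← cj_wOf]; exact h1) (by rw [← cj_wOf]; exact adj_symm g hg.1 k hk.1 h3) (by rw [← cj_wOf]; exact h2)
    set A := {X ∈ Om | X ≤ C} with hA
    set A' := {X ∈ Om | ¬ X ≤ C} with hA'
    have hdisj : Disjoint A A' := Set.disjoint_left.2 fun X h1 h2 => h2.2 h1.2
    have hunion : Om = A ∪ A' := by ext X; simp only [hA, hA', Set.mem_union, Set.mem_setOf_eq]; tauto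
    have swap : ∀ X ∈ Om, (cj g₁ X ∈ Om) ∧ (X ≤ C ↔ ¬ cj g₁ X ≤ C) := by
      rintro _ ⟨g, hg, rfl⟩
      refine ⟨⟨g₁ * g, mul_mem hg₁M hg, cj_mul _ _ _⟩, ?_⟩
      rw [← cj_mul]
      have hgg : g₁ * g ∈ M₁ := mul_mem hg₁M hg
      have e1 : ¬ adj g 1 ↔ cj g (wOf V C) ≤ C := by simp only [adj, not_not, cj_one]
      have e2 : adj (g₁ * g) 1 ↔ ¬ cj (g₁ * g) (wOf V C) ≤ C := by simp only [adj, cj_one]
      rw [← e1, ← e2]
      have h1g₁ : adj g₁ 1 := adj_symm 1 (one_mem _) g₁ hg₁ ha₁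
      constructor
      · intro h
        have h' : ¬ adj (g₁ * g) g₁ := fun e => h (by
          have := adj_mul g₁⁻¹ _ _ e
          rwa [inv_mul_cancel_left, inv_mul_cancel] at this)
        by_contra h2
        exact trans' g₁ hg₁M (g₁ * g) hgg 1 (one_mem _)
          (fun e => h' (adj_symm g₁ hg₁ _ hgg.1 e))
          (fun e => (adj_symm 1 (one_mem _) _ hgg.1 e) h2) h1g₁
      · intro h2 h
        have h' : adj (g₁ * g) g₁ := by
          have := adj_mul g₁ _ _ h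
          rwa [mul_one] at this
        exact notri g₁ hg₁M (g₁ * g) hgg 1 (one_mem _)
          (adj_symm _ hgg.1 g₁ hg₁ h') (adj_symm _ hgg.1 1 (one_mem _) h2) h1g₁
    have hfinA : A.Finite := Set.toFinite _
    have hfinA' : A'.Finite := Set.toFinite _
    have hle1 : A.ncard ≤ A'.ncard := Set.ncard_le_ncard_of_injOn (fun X => cj g₁ X)
      (fun X hX => ⟨(swap X hX.1).1, (swap X hX.1).2.1 hX.2⟩) (fun _ _ _ _ h => cj_inj h) hfinA'
    have hle2 : A'.ncard ≤ A.ncard := Set.ncard_le_ncard_of_injOn (fun X => cj g₁ X)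
      (fun X hX => ⟨(swap X hX.1).1, not_not.1 fun h => hX.2 ((swap X hX.1).2.2 h)⟩)
      (fun _ _ _ _ h => cj_inj h) hfinA
    rw [hunion, Set.ncard_union_eq hdisj hfinA hfinA', le_antisymm hle1 hle2, Nat.odd_iff] at hOodd
    omega
  · -- some vertex is foreign to the frame
    push Not at hall
    obtain ⟨g, hg, hgne⟩ := hall
    obtain ⟨g', hg', ha'⟩ := nb 1 (one_mem _)
    set F := {k : G | k ∈ M₀ ∧ ∀ t ∈ T, L k ≠ L t} with hF
    set S : Subgroup G := ⨆ k : F, L (k : G) with hS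
    have hgF : L g ≤ S := le_iSup (fun k : F => L (k : G)) ⟨g, hg, hgne⟩
    have hSB : S ≤ B := iSup_le fun k => by
      have h1 := k.2.1
      rw [hL _ h1]
      refine le_trans (Subgroup.commutator_mono (R _ h1).w_le_b le_rfl) ?_
      exact Subgroup.commutator_le_self B
    have hSne : S ≠ ⊥ := ne_bot_of_le_ne_bot (by rw [hL g hg]; exact (R g hg).l_ne_bot) hgF
    have hcent : ∀ h ∈ M₀, (∀ k ∈ F, L k ≠ L h) → h * x * h⁻¹ ∈ Subgroup.normalizer (S : Set G) := by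
      intro h hh hne
      have h1 : S ≤ Subgroup.centralizer {h * x * h⁻¹} := iSup_le fun k => L_cent _ k.2.1 h hh (hne k k.2)
      refine Subgroup.mem_normalizer_iff.2 fun y => ?_
      constructor
      · intro hy
        rwa [← Subgroup.mem_centralizer_singleton_iff.1 (h1 hy), mul_inv_cancel_right]
      · intro hy
        have h2 := Subgroup.mem_centralizer_singleton_iff.1 (h1 hy)
        set z := h * x * h⁻¹
        have : z * y * z⁻¹ = y := by
          rw [inv_mul_cancel_right, mul_assoc z, ← mul_assoc z z] at h2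
          have h3 : z * y = z * (z * y * z⁻¹) := h2.trans (by group)
          exact (mul_left_cancel h3).symm
        rwa [this] at hy
    have hTS : T ≤ Subgroup.normalizer (S : Set G) := fun t ht => by
      refine mem_normalizer_of_cj (Subgroup.eq_of_le_of_card_ge ?_ (card_cj t S).ge)
      rw [hS, cj, Subgroup.map_iSup]
      refine iSup_le fun k => ?_
      rw [show (L (k : G)).map (MulAut.conj t).toMonoidHom = L (t * k) from (hLmul t k).symm]
      refine le_iSup (fun k : F => L (k : G)) ⟨t * k, mul_mem (hTM ht) k.2.1, fun s hs e => ?_⟩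
      refine k.2.2 (t⁻¹ * s) (mul_mem (inv_mem ht) hs) ?_
      rw [hLmul, ← e, hLmul, ← cj_mul, inv_mul_cancel, cj_one]
    have hxS : x ∈ Subgroup.normalizer (S : Set G) := by
      have := hcent 1 (one_mem _) fun k hk => hk.2 1 (one_mem _)
      simpa using this
    have hx'S : g' * x * g'⁻¹ ∈ Subgroup.normalizer (S : Set G) :=
      hcent g' hg' fun k hk e => hk.2 1 (one_mem _) (e.trans (L_edge 1 (one_mem _) g' hg' ha').symm)
    obtain ⟨O, hOT, hNO, hCO⟩ := hNloc S (hSB.trans hBT) hSne hTS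
    have hHN : H ≤ Subgroup.normalizer (S : Set G) := hgen.trans (sup_le hTS (Subgroup.zpowers_le.2 hxS))
    have hOQ : O ≤ Q := hnl O hOT (hHN.trans hNO)
    have hstep : ∀ z : G, z ∈ Subgroup.normalizer (S : Set G) → ∀ y ∈ O, ⁅y, z⁆ ∈ O := fun z hz y hy => by
      rw [commutatorElement_def, mul_assoc, mul_assoc, ← mul_assoc z]
      exact mul_mem hy ((Subgroup.mem_normalizer_iff.1 (hNO hz) _).1 (inv_mem hy))
    have hinv : ∀ {V₀ : Subgroup G} {x₀ : G}, x₀ ∈ Subgroup.normalizer (V₀ : Set G) →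
        x₀ ∈ Subgroup.normalizer (S : Set G) → ∀ d ∈ wx V₀ x₀ ⊓ O, x₀ * d * x₀⁻¹ ∈ wx V₀ x₀ ⊓ O :=
      fun {V₀ x₀} hV₀ hS₀ d hd => ⟨by
        have h := cj_wx x₀ V₀ x₀
        rw [cj_eq_of_normalizer hV₀, mul_inv_cancel_right] at h
        rw [← h]
        exact conj_mem_cj hd.1, (Subgroup.mem_normalizer_iff.1 (hNO hS₀) d).1 hd.2⟩
    obtain ⟨w, hw, hwO, hwy⟩ : ∃ w ∈ wx V x, w ∈ O ∧ w ∉ yOf V B := by
      by_contra hcon
      push Not at hcon
      have hK : ∀ d ∈ wx V x ⊓ O, d ∈ K := fun d hd => by rw [r.facts.2.1]; exact ⟨hd.1, hcon d hd.1 hd.2⟩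
      have h : wx V x ⊓ O = ⊥ := (Subgroup.eq_bot_iff_forall _).2 fun d hd =>
        r.irr d (hK d hd) (hK _ (hinv r.xV hxS d hd))
      have hxc : x ∈ Subgroup.centralizer (O : Set G) := Subgroup.mem_centralizer_iff.2 fun y hy => by
        have h1 : ⁅y, x⁆ ∈ wx V x ⊓ O := ⟨r.qx y (hOQ hy), hstep x hxS y hy⟩
        rw [h, Subgroup.mem_bot] at h1
        exact commutatorElement_eq_one_iff_mul_comm.1 h1
      obtain ⟨n, hn⟩ := hT ⟨x, hOT (hCO ⟨hxc, hxS⟩)⟩
      have hx1 : x = 1 := one_of_two_pow r.odd (n := n) (by simpa using congrArg Subtype.val hn)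
      refine r.kne ?_
      rw [wx, Subgroup.closure_le]
      rintro _ ⟨v, -, rfl⟩
      simp [hx1]
    -- a commutator that is moved by the neighbour's root
    have r' := R g' hg'
    set x' := g' * x * g'⁻¹ with hx'
    set V' := cj g' V with hV'
    set C' := cj g' C with hC'
    have hadj' : ¬ wOf V C ≤ C' := by
      have : adj 1 g' := ha'
      simpa only [adj, cj_one] using this
    have hadj'' : ¬ wOf V' C' ≤ C := fun e => hadj' (r.nonadj_symm r' e)
    obtain ⟨v, hv, hvC⟩ := SetLike.not_le_iff_exists.1 hadj''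
    have hwC' : w ∉ C' := fun h => hwy (by rw [← r.adj_inf r' hadj'']; exact ⟨r.wx_le_w hw, h⟩)
    have hwB : w ∈ B := r.vB (r.wx_le hw)
    have hl : ¬ Commute ⁅v, w⁆ x' := fun h => hvC (r'.y_le_c' r (r'.move' hwB hwC' hv h))
    have hlO : ⁅v, w⁆ ∈ O := by
      have hvN : v ∈ Subgroup.normalizer (O : Set G) := hNO (hTS (hBT (r'.w_le_b hv)))
      rw [commutatorElement_def]
      exact mul_mem ((Subgroup.mem_normalizer_iff.1 hvN w).1 hwO) (inv_mem hwO)
    have hlV : ⁅v, w⁆ ∈ V' := by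
      rw [commutatorElement_def, mul_assoc, mul_assoc, ← mul_assoc w]
      exact mul_mem hv.1 ((Subgroup.mem_normalizer_iff.1 (r'.bV hwB) _).1 (inv_mem hv.1))
    have hmem : ⁅⁅v, w⁆, x'⁆ ∈ wx V' x' ⊓ O := ⟨r'.qx _ (r'.vQ hlV), hstep x' hx'S _ hlO⟩
    have hK' : ∀ d ∈ wx V' x' ⊓ O, d ∈ cj g' K := fun d hd => by
      have hdC : d ∈ C := r.qB ⟨hOQ hd.2, r'.vB (r'.wx_le hd.1)⟩
      rw [r'.facts.2.1]
      exact ⟨hd.1, (r'.adj_inf r hadj').le ⟨r'.wx_le_w hd.1, hdC⟩⟩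
    exact hl (commutatorElement_eq_one_iff_mul_comm.1
      (r'.irr _ (hK' _ hmem) (hK' _ (hinv r'.xV hx'S _ hmem))))

end

end CfsgLib.QTPush
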