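import Cfsg.Agent.Lib.QTPush.Setting
import Cfsg.Agent.Lib.QTPush.FromLayout
import Cfsg.Agent.Lib.QTPush.Core
import Cfsg.Agent.S2906

/-!
A common normal 2-subgroup of two overgroups of a Sylow 2-subgroup in a group of even characteristic.
-/

set_option autoImplicit false
set_option linter.unusedSectionVars false
set_option linter.style.haveILetI false

namespace CfsgLib.QTPush

open Cfsg CfsgLib CfsgLib.BlockPush
open scoped commutatorElement Pointwise

universe u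

variable {G : Type u} [Group G] [Finite G]

theorem elem2_of_omega (K : Subgroup G) : Elem2 (omegaOneCenter 2 K) :=
  ⟨fun _ ha _ hb => BBlock.omegaOneCenter_comm 2 K hb (BBlock.omegaOneCenter_le 2 K ha),
    fun a ha => by rw [← pow_two]; exact BBlock.omegaOneCenter_pow 2 K ha⟩

theorem mem_map_subtype {Y : Subgroup G} {S : Subgroup ↥Y} {y : G} (hy : y ∈ Y) :
    y ∈ S.map Y.subtype ↔ (⟨y, hy⟩ : ↥Y) ∈ S :=
  ⟨fun ⟨z, hz, e⟩ => by rwa [show (⟨y, hy⟩ : ↥Y) = z from Subtype.ext e.symm], fun h => ⟨_, h, rfl⟩⟩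

/-- A characteristic subgroup of the Baumann subgroup that is normal gives the common subgroup. -/
theorem normalizer_char {Y : Subgroup G} (P : Sylow 2 ↥Y) {C : Subgroup ↥Y} (hC : C ≤ tB P)
    (hch : (C.subgroupOf (tB P)).Characteristic) :
    Subgroup.normalizer (baumannSubgroupOf 2 ((P : Subgroup ↥Y).map Y.subtype) : Set G) ≤
      Subgroup.normalizer (C.map Y.subtype : Set G) := by
  intro g hgB
  rw [baumann_map Y.subtype_injective] at hgB
  have hN := Subgroup.mem_normalizer_iff.1 hgB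
  have hmem : ∀ y : ↥(tB P), g * ((y : ↥Y) : G) * g⁻¹ ∈ (tB P).map Y.subtype := fun y => (hN _).1 ⟨y, y.2, rfl⟩
  have hmem' : ∀ y : ↥(tB P), g⁻¹ * ((y : ↥Y) : G) * g ∈ (tB P).map Y.subtype := fun y => (hN _).2 (by
    rw [show g * (g⁻¹ * ((y : ↥Y) : G) * g) * g⁻¹ = ((y : ↥Y) : G) by group]
    exact ⟨y, y.2, rfl⟩)
  have hY : ∀ y : ↥(tB P), g * ((y : ↥Y) : G) * g⁻¹ ∈ Y := fun y => Subgroup.map_subtype_le _ (hmem y)
  have hY' : ∀ y : ↥(tB P), g⁻¹ * ((y : ↥Y) : G) * g ∈ Y := fun y => Subgroup.map_subtype_le _ (hmem' y)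
  let φ : ↥(tB P) ≃* ↥(tB P) :=
    { toFun := fun y => ⟨⟨_, hY y⟩, (mem_map_subtype (hY y)).1 (hmem y)⟩
      invFun := fun y => ⟨⟨_, hY' y⟩, (mem_map_subtype (hY' y)).1 (hmem' y)⟩
      left_inv := fun y => Subtype.ext (Subtype.ext
        (show g⁻¹ * (g * ((y : ↥Y) : G) * g⁻¹) * g = ((y : ↥Y) : G) by group))
      right_inv := fun y => Subtype.ext (Subtype.ext
        (show g * (g⁻¹ * ((y : ↥Y) : G) * g) * g⁻¹ = ((y : ↥Y) : G) by group))
      map_mul' := fun y z => Subtype.ext (Subtype.ext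
        (show g * (((y : ↥Y) : G) * ((z : ↥Y) : G)) * g⁻¹ =
          g * ((y : ↥Y) : G) * g⁻¹ * (g * ((z : ↥Y) : G) * g⁻¹) by group)) }
  refine ZJFailure.mem_normalizer_of_forall ?_
  rintro _ ⟨y, hy, rfl⟩
  have h : φ ⟨y, hC hy⟩ ∈ C.subgroupOf (tB P) :=
    (Subgroup.characteristic_iff_comap_eq.1 hch φ).ge (show (⟨y, hC hy⟩ : ↥(tB P)) ∈ C.subgroupOf (tB P) from hy)
  exact ⟨_, h, rfl⟩

/-- The common normal subgroup of a group normalizing the Baumann subgroup and one moving `Ω₁(Z(R))`. -/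
theorem common_of_baumann (hev : IsOfEvenCharacteristic G) (T : Sylow 2 G) {M₀ H : Subgroup G}
    (hTM : (T : Subgroup G) ≤ M₀) (hTH : (T : Subgroup G) ≤ H) (hne : pCore 2 ↥H ≠ ⊥)
    (hU : ∃! K : Subgroup ↥H, IsCoatom K ∧ (T : Subgroup G).subgroupOf H ≤ K)
    {R : Subgroup G} (hR : R ≠ ⊥) (hRT : R ≤ (T : Subgroup G))
    (hRS : ∃ P : Sylow 2 ↥(oddGenerated H ⊔ R),
      (P : Subgroup ↥(oddGenerated H ⊔ R)) = R.subgroupOf (oddGenerated H ⊔ R))
    (hTR : (T : Subgroup G) ≤ Subgroup.normalizer (R : Set G))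
    (hMB₀ : M₀ ≤ Subgroup.normalizer (baumannSubgroupOf 2 R : Set G))
    (hnz : ¬ H ≤ Subgroup.normalizer (omegaOneCenter 2 R : Set G)) :
    ∃ R₀ : Subgroup G, R₀ ≠ ⊥ ∧ R₀ ≤ baumannSubgroupOf 2 R ∧ M₀ ⊔ H ≤ Subgroup.normalizer (R₀ : Set G) := by
  classical
  obtain ⟨MH, v⟩ := exists_env hev T hTH hne hU
  set X := oddGenerated H ⊔ R with hX
  obtain ⟨P₀, hP₀⟩ := hRS
  have hRmax : ∀ S : Subgroup G, S ≤ X → IsPGroup 2 S → R ≤ S → S ≤ R := fun S hS hS2 hRS s hs => by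
    have h1 : S.subgroupOf X ≤ (P₀ : Subgroup ↥X) := (P₀.is_maximal'
      (hS2.of_equiv (Subgroup.subgroupOfEquivOfLe hS).symm) (hP₀ ▸ Subgroup.comap_mono hRS)).le
    have h2 := h1 (show (⟨s, hS hs⟩ : ↥X) ∈ S.subgroupOf X from hs)
    rw [hP₀] at h2
    exact h2
  have hOX : oddGenerated H ≤ X := le_sup_left
  have hOH : oddGenerated H ≤ H := (Subgroup.closure_le _).2 fun y hy => hy.1
  have hXH : X ≤ H := sup_le hOH (hRT.trans hTH)
  have hHX : H ≤ (T : Subgroup G) ⊔ X := by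
    have hpr := PResidual.pResidual_sup_sylow (T.subtype hTH)
    intro g hg
    have h1 := Subgroup.mem_map_of_mem H.subtype (hpr.ge (Subgroup.mem_top (⟨g, hg⟩ : ↥H)))
    rw [Subgroup.map_sup] at h1
    refine (sup_le ?_ ?_ : _ ≤ (T : Subgroup G) ⊔ X) h1
    · rintro _ ⟨t, ht, rfl⟩
      exact Subgroup.mem_sup_left ht
    · rw [Subgroup.map_le_iff_le_comap]
      refine (Subgroup.closure_le _).2 fun y hy => Subgroup.mem_sup_right (hOX (Subgroup.subset_closure ⟨y.2, ?_⟩))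
      rw [show orderOf (H.subtype y) = orderOf y from Subgroup.orderOf_coe y]
      exact Nat.coprime_two_right.1 hy
  have hXn : H ≤ Subgroup.normalizer (X : Set G) := by
    refine hHX.trans (sup_le (fun t ht => ?_) Subgroup.le_normalizer)
    refine ZJFailure.mem_normalizer_of_forall fun y hy => ?_
    have hle : X ≤ X.comap (MulAut.conj t).toMonoidHom := sup_le ((Subgroup.closure_le _).2 fun z hz =>
      hOX (Subgroup.subset_closure ⟨mul_mem (mul_mem (hTH ht) hz.1) (inv_mem (hTH ht)),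
        (MulEquiv.orderOf_eq (MulAut.conj t) z).symm ▸ hz.2⟩))
      fun z hz => Subgroup.mem_sup_right ((Subgroup.mem_normalizer_iff.1 (hTR ht) z).1 hz)
    exact hle hy
  have hRn : ¬ H ≤ Subgroup.normalizer (R : Set G) := fun h =>
    hnz (h.trans (BBlock.normalizer_le_normalizer_omegaOneCenter 2 R))
  have hXM : ¬ X ≤ MH := fun h => v.mne (hHX.trans (sup_le v.tM h))
  obtain ⟨Y, ⟨hRY, hYX, hYM⟩, hmin⟩ := Set.exists_min_image {Y : Subgroup G | R ≤ Y ∧ Y ≤ X ∧ ¬ Y ≤ MH}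
    (fun Y => Nat.card Y) (Set.toFinite _) ⟨X, le_sup_right, le_rfl, hXM⟩
  have hYH : Y ≤ H := hYX.trans hXH
  have hsub : ∀ Z : Subgroup G, R ≤ Z → Z ≤ Y → Z ≠ Y → Z ≤ MH := fun Z hRZ hZY hne' => by
    by_contra h
    exact hne' (Subgroup.eq_of_le_of_card_ge hZY (hmin Z ⟨hRZ, hZY.trans hYX, h⟩))
  have hHY : H ≤ (T : Subgroup G) ⊔ Y :=
    (v.eq_of_not_le le_sup_left (sup_le hTH hYH) fun h => hYM (le_sup_right.trans h)).ge
  have hfin : ∀ D : Subgroup G, D ≠ ⊥ → D ≤ baumannSubgroupOf 2 R →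
      Subgroup.normalizer (baumannSubgroupOf 2 R : Set G) ≤ Subgroup.normalizer (D : Set G) →
      Y ≤ Subgroup.normalizer (D : Set G) →
      ∃ R₀ : Subgroup G, R₀ ≠ ⊥ ∧ R₀ ≤ baumannSubgroupOf 2 R ∧ M₀ ⊔ H ≤ Subgroup.normalizer (R₀ : Set G) :=
    fun D h1 h2 h3 h4 => ⟨D, h1, h2, sup_le (hMB₀.trans h3)
      (hHY.trans (sup_le ((hTR.trans (normalizer_le_baumann R)).trans h3) h4))⟩
  -- the minimal group
  obtain ⟨P, hP⟩ : ∃ P : Sylow 2 ↥Y, (P : Subgroup ↥Y) = R.subgroupOf Y := by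
    obtain ⟨P, hP⟩ := ((T.2.to_le hRT).of_equiv (Subgroup.subgroupOfEquivOfLe hRY).symm).exists_le_sylow
    refine ⟨P, le_antisymm (fun y hy => ?_) hP⟩
    exact hRmax _ ((Subgroup.map_subtype_le _).trans hYX) (P.2.map Y.subtype)
      (fun z hz => ⟨⟨z, hRY hz⟩, hP hz, rfl⟩) ⟨y, hy, rfl⟩
  have hPR : (P : Subgroup ↥Y).map Y.subtype = R := by rw [hP, Subgroup.map_subgroupOf_eq_of_le hRY]
  have hPM : (P : Subgroup ↥Y) ≤ MH.subgroupOf Y := fun y hy => v.tM (hRT (hPR ▸ Subgroup.mem_map_of_mem _ hy))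
  have hMY : MH.subgroupOf Y ≠ ⊤ := fun e => hYM (Subgroup.subgroupOf_eq_top.1 e)
  have hover : ∀ Z : Subgroup ↥Y, (P : Subgroup ↥Y) ≤ Z → Z ≠ ⊤ → Z ≤ MH.subgroupOf Y := fun Z hZ hne' => by
    have h := hsub (Z.map Y.subtype) (hPR ▸ Subgroup.map_mono hZ) (Subgroup.map_subtype_le _) fun e => hne' (by
      refine eq_top_iff.2 fun y _ => ?_
      have hy : (y : G) ∈ Z.map Y.subtype := by rw [e]; exact y.2
      exact (mem_map_subtype y.2).1 hy)
    exact fun z hz => h ⟨z, hz, rfl⟩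
  have hcoM : IsCoatom (MH.subgroupOf Y) := ⟨hMY, fun Z hlt => by
    by_contra hne'
    exact hlt.not_ge (hover Z (hPM.trans hlt.le) hne')⟩
  have hPn : ¬ (P : Subgroup ↥Y).Normal := fun hn => by
    refine hRn (hHY.trans (sup_le hTR ((Subgroup.normal_subgroupOf_iff_le_normalizer hRY).1 ?_)))
    rwa [← hP]
  have hpmin : IsPMinimal 2 ↥Y := by
    intro S
    obtain ⟨g, rfl⟩ := MulAction.exists_smul_eq ↥Y P S
    have h0 : ¬ (P : Subgroup ↥Y).Normal ∧ ∃! M : Subgroup ↥Y, IsCoatom M ∧ (P : Subgroup ↥Y) ≤ M :=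
      ⟨hPn, MH.subgroupOf Y, ⟨hcoM, hPM⟩, fun K hK =>
        ((hK.1.le_iff).1 (hover K hK.2 hK.1.1)).resolve_left hMY |>.symm⟩
    rw [Sylow.coe_subgroup_smul]
    exact Cfsg.Agent.S2906.pmin_prop_map (MulAut.conj g) _ h0
  -- the core of `H` in `X`
  set Q := pCoreOf 2 H with hQdef
  have hQn : H ≤ Subgroup.normalizer (Q : Set G) := normalizer_pCoreOf H
  have hQT : Q ≤ (T : Subgroup G) := pCoreOf_le_sylow T hTH
  set QX := Q ⊓ X with hQX
  have hQXR : QX ≤ R := by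
    refine le_trans (le_sup_left : QX ≤ QX ⊔ R) (hRmax _ (sup_le inf_le_right le_sup_right)
      (T.2.to_le (sup_le (inf_le_left.trans hQT) hRT)) le_sup_right)
  have hQXY : QX ≤ Y := hQXR.trans hRY
  have hQXn : H ≤ Subgroup.normalizer (QX : Set G) := fun g hg => ZJFailure.mem_normalizer_of_forall fun y hy =>
    ⟨(Subgroup.mem_normalizer_iff.1 (hQn hg) y).1 hy.1, (Subgroup.mem_normalizer_iff.1 (hXn hg) y).1 hy.2⟩
  have hQQX : ∀ q ∈ Q, ∀ y ∈ X, ⁅q, y⁆ ∈ QX := fun q hq y hy => by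
    refine Subgroup.mem_inf.2 ⟨?_, ?_⟩
    · rw [commutatorElement_def, mul_assoc, mul_assoc, ← mul_assoc y]
      exact mul_mem hq ((Subgroup.mem_normalizer_iff.1 (hQn (hXH hy)) _).1 (inv_mem hq))
    · exact mul_mem ((Subgroup.mem_normalizer_iff.1 (hXn (hTH (hQT hq))) y).1 hy) (inv_mem hy)
  have hcentX : X ⊓ Subgroup.centralizer (QX : Set G) ≤ QX := by
    set C := X ⊓ Subgroup.centralizer (QX : Set G) with hC
    have hCn : H ≤ Subgroup.normalizer (C : Set G) := fun g hg => ZJFailure.mem_normalizer_of_forall fun y hy =>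
      ⟨(Subgroup.mem_normalizer_iff.1 (hXn hg) y).1 hy.1,
        (Subgroup.mem_normalizer_iff.1 (BBlock.normalizer_le_normalizer_centralizer QX (hQXn hg)) y).1 hy.2⟩
    have hCp : IsPGroup 2 C := fun y => by
      obtain ⟨k, hk⟩ := PResidual.exists_pow_coprime (p := 2) (y : G)
      refine ⟨k, Subtype.ext ?_⟩
      have hodd := Nat.coprime_two_right.1 hk
      have hyC : (y : G) ^ 2 ^ k ∈ C := pow_mem y.2 _
      have hc : (y : G) ^ 2 ^ k ∈ Subgroup.centralizer (Q : Set G) := Subgroup.mem_centralizer_iff.2 fun q hq => by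
        have hd := hQQX q hq _ hyC.1
        obtain ⟨j, hj⟩ := (T.2.to_le ((hQXR.trans hRT) : QX ≤ _)) ⟨_, hd⟩
        exact (commute_of_chain hodd (k := j) (by simpa using congrArg Subtype.val hj)
          (Subgroup.mem_centralizer_iff.1 hyC.2 _ hd)).eq
      obtain ⟨j, hj⟩ := T.2 ⟨_, hQT (v.char2 ⟨hc, hXH hyC.1⟩)⟩
      simpa using one_of_two_pow hodd (n := j) (by simpa using congrArg Subtype.val hj)
    exact le_inf (le_pCoreOf (inf_le_left.trans hXH) hCn hCp) inf_le_left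
  have hQY : QX.subgroupOf Y ≤ pCore 2 ↥Y := by
    haveI := (Subgroup.normal_subgroupOf_iff_le_normalizer hQXY).2 (hYH.trans hQXn)
    exact le_pCore ((T.2.to_le (hQXR.trans hRT)).of_equiv (Subgroup.subgroupOfEquivOfLe hQXY).symm)
  have hcentY : ∀ y : ↥Y, (∀ q ∈ pCore 2 ↥Y, q * y = y * q) → (y : G) ∈ QX := fun y hy =>
    hcentX ⟨hYX y.2, Subgroup.mem_centralizer_iff.2 fun q hq =>
      congrArg Subtype.val (hy ⟨q, hQXY hq⟩ (hQY hq))⟩
  have hcharY : Subgroup.centralizer (pCore 2 ↥Y : Set ↥Y) ≤ pCore 2 ↥Y := fun y hy =>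
    hQY (hcentY y fun q hq => Subgroup.mem_centralizer_iff.1 hy q hq)
  by_cases hchar : ∀ C : Subgroup ↥Y, C ≤ baumannSubgroupOf 2 (P : Subgroup ↥Y) → C ≠ ⊥ →
      (C.subgroupOf (baumannSubgroupOf 2 (P : Subgroup ↥Y))).Characteristic → ¬ C.Normal
  swap
  · push Not at hchar
    obtain ⟨C, hC, hCne, hCch, hCn⟩ := hchar
    refine hfin (C.map Y.subtype) (fun e => hCne ((Subgroup.map_eq_bot_iff_of_injective _ Y.subtype_injective).1 e))
      ?_ ?_ ?_
    · rw [← hPR, baumann_map Y.subtype_injective]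
      exact Subgroup.map_mono hC
    · have := normalizer_char P hC hCch
      rwa [hPR] at this
    · intro y hy
      exact Subgroup.le_normalizer_map Y.subtype ⟨⟨y, hy⟩, by
        rw [Subgroup.normalizer_eq_top_iff.2 hCn]; exact Subgroup.mem_top _, rfl⟩
  have hz : ¬ (omegaOneCenter 2 (P : Subgroup ↥Y)).Normal := fun hz => by
    have hmap : (omegaOneCenter 2 (P : Subgroup ↥Y)).map Y.subtype = omegaOneCenter 2 R := by
      rw [← omegaOneCenter_map_inj Y.subtype_injective, hPR]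
    refine hnz (hHY.trans (sup_le (hTR.trans (BBlock.normalizer_le_normalizer_omegaOneCenter 2 R)) fun y hy => ?_))
    rw [← hmap]
    exact Subgroup.le_normalizer_map Y.subtype ⟨⟨y, hy⟩, by
      rw [Subgroup.normalizer_eq_top_iff.2 hz]; exact Subgroup.mem_top _, rfl⟩
  -- the blocks
  obtain ⟨M, c⟩ := exists_ctx hpmin hcharY P hchar hz
  obtain ⟨r, E, hr, L⟩ := c.exists_components
  obtain ⟨x', C', K', d⟩ := exists_root c L ⟨0, hr⟩
  set f := Y.subtype with hf
  have hfi : Function.Injective f := Y.subtype_injective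
  set x : G := (x' : G) with hxdef
  have hxY : x ∈ Y := x'.2
  have hxH : x ∈ H := hYH hxY
  have hodd : Odd (orderOf x) := by rw [hxdef, Subgroup.orderOf_coe]; exact d.odd
  have hxM : x ∉ MH := fun h => d.notM (c.uniq _ hPM hMY h)
  set V := omegaOneCenter 2 QX with hV
  have hVQX : V ≤ QX := BBlock.omegaOneCenter_le 2 QX
  have hVn : H ≤ Subgroup.normalizer (V : Set G) :=
    hQXn.trans (BBlock.normalizer_le_normalizer_omegaOneCenter 2 QX)
  have hVY : ∀ {w : G} (hw : w ∈ V), (⟨w, hQXY (hVQX hw)⟩ : ↥Y) ∈ pCore 2 ↥Y := fun hw => hQY (hVQX hw)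
  have hvV : (vQ 2 ↥Y).map f ≤ V := by
    rintro _ ⟨w, hw, rfl⟩
    have hcm : ∀ q ∈ pCore 2 ↥Y, q * w = w * q := fun q hq => BBlock.omegaOneCenter_comm 2 _ hw hq
    refine Subgroup.subset_closure ⟨⟨hcentY w hcm, Subgroup.mem_centralizer_iff.2 fun q hq =>
      congrArg Subtype.val (hcm ⟨q, hQXY hq⟩ (hQY hq))⟩, ?_⟩
    exact congrArg Subtype.val (vQ_pow hw)
  have hxV : x ∈ Subgroup.normalizer (V : Set G) := hVn hxH
  have hVel : Elem2 V := elem2_of_omega QX
  set wX' := wx (vQ 2 ↥Y) x' with hwX'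
  have hwmap : wx V x = wX'.map f := by
    refine le_antisymm ((Subgroup.closure_le _).2 ?_) ?_
    · rintro _ ⟨w, hw, rfl⟩
      obtain ⟨u, hu, e⟩ := exists_comm_eq (vQ_elem2) (vQ_normalizer x') d.odd
        (d.coreComm _ (hVY hw))
      exact ⟨⁅u, x'⁆, mem_wx_of_mem hu, (congrArg Subtype.val e).symm⟩
    · rw [hwX', wx, MonoidHom.map_closure, Subgroup.closure_le]
      rintro _ ⟨_, ⟨u, hu, rfl⟩, rfl⟩
      exact mem_wx_of_mem (hvV ⟨u, hu, rfl⟩)
  have hKne : ¬ wx V x ≤ K'.map f := by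
    rw [hwmap, Subgroup.map_le_map_iff_of_injective hfi]
    exact d.kne
  have hxcent : ∀ W : Subgroup G, wx V x ≤ W → x ∈ Subgroup.centralizer (W : Set G) → False := fun W hW hc =>
    hKne fun w hw => by
      rw [wx_fixed hVel hxV hodd hw (Subgroup.mem_centralizer_iff.1 hc w (hW hw))]
      exact one_mem _
  set B := (tB P).map f with hBdef
  have hBR : B ≤ R := (Subgroup.map_mono (tB_le P)).trans hPR.le
  have hBb : baumannSubgroupOf 2 R = B := by rw [← hPR, baumann_map hfi]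
  have hVB : V ≤ B := by
    set Z := omegaOne 2 (centerThompsonOf 2 R) with hZ
    have hZmap : Z = (tZ P).map f := by rw [hZ, ← hPR, zJ_map hfi]
    have hZR : Z ≤ R := hZmap ▸ (Subgroup.map_mono ((tZ_le_tJ P).trans (tJ_le P))).trans hPR.le
    have hTZ : (T : Subgroup G) ≤ Subgroup.normalizer (Z : Set G) := hTR.trans (normalizer_le_zJ R)
    set Cv := H ⊓ Subgroup.centralizer (V : Set G) with hCv
    have hCvn : H ≤ Subgroup.normalizer (Cv : Set G) := fun g hg => ZJFailure.mem_normalizer_of_forall fun y hy =>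
      Subgroup.mem_inf.2 ⟨mul_mem (mul_mem hg hy.1) (inv_mem hg),
        (Subgroup.mem_normalizer_iff.1 (BBlock.normalizer_le_normalizer_centralizer V (hVn hg)) y).1 hy.2⟩
    set N₁ := Z ⊔ Cv with hN₁
    have hZH : Z ≤ H := hZR.trans (hRT.trans hTH)
    have hN₁H : N₁ ≤ H := sup_le hZH inf_le_left
    have hN₁n : H ≤ Subgroup.normalizer (N₁ : Set G) := by
      have key : ∀ g ∈ H, (∀ z ∈ Z, g * z * g⁻¹ ∈ N₁) → g ∈ Subgroup.normalizer (N₁ : Set G) := fun g hg hz' =>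
        ZJFailure.mem_normalizer_of_forall fun y hy => by
          have hle : N₁ ≤ N₁.comap (MulAut.conj g).toMonoidHom := sup_le hz' fun y hy =>
            Subgroup.mem_sup_right ((Subgroup.mem_normalizer_iff.1 (hCvn hg) y).1 hy)
          exact hle hy
      refine (v.gen hxH hxM).trans (sup_le (fun t ht => key t (hTH ht) fun z hz' =>
        Subgroup.mem_sup_left ((Subgroup.mem_normalizer_iff.1 (hTZ ht) z).1 hz')) (Subgroup.zpowers_le.2 ?_))
      refine key x hxH fun z hz' => ?_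
      rw [hZmap] at hz'
      obtain ⟨z', hz'', rfl⟩ := hz'
      have hd := d.coreComm z' (c.xQ_le_core L (tZ_le_xQ P hz''))
      have hdV : (f ⁅z', x'⁆) ∈ V := hvV ⟨_, hd, rfl⟩
      have e : x * f z' * x⁻¹ = (f ⁅z', x'⁆)⁻¹ * f z' := by
        show (x' : G) * (z' : G) * (x' : G)⁻¹ =
          ((z' : G) * (x' : G) * (z' : G)⁻¹ * (x' : G)⁻¹)⁻¹ * (z' : G)
        group
      rw [e]
      refine mul_mem (inv_mem (Subgroup.mem_sup_right ⟨hYH (⁅z', x'⁆ : ↥Y).2, ?_⟩))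
        (Subgroup.mem_sup_left (hZmap ▸ ⟨z', hz'', rfl⟩))
      exact Subgroup.mem_centralizer_iff.2 fun u hu => hVel.1 u hu _ hdV
    have hxN₁ : x ∉ N₁ := fun hx => by
      refine hxcent V (wx_le_of hxV) ?_
      rw [hN₁, ← SetLike.mem_coe, Subgroup.coe_mul_of_left_le_normalizer_right _ _ (hZH.trans hCvn)] at hx
      obtain ⟨z, hzZ, w, hw, e⟩ := hx
      change z * w = x at e
      refine mem_of_odd hodd (k := 1) (Subgroup.mem_centralizer_iff.2 fun u hu => ?_)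
      have hz2 : z * z = 1 := by rw [← pow_two]; exact BBlock.omegaOneCenter_pow 2 _ hzZ
      have hw' := (Subgroup.mem_normalizer_iff.1 (hCvn (hZH hzZ)) w).1 hw
      have e2 : x ^ 2 ^ 1 = z * w * z⁻¹ * (z * z) * w := by rw [pow_one, pow_two, ← e]; group
      rw [e2, hz2, mul_one]
      exact Subgroup.mem_centralizer_iff.1 (mul_mem hw' hw : z * w * z⁻¹ * w ∈ Cv).2 u hu
    have hZQX : Z ≤ QX := fun z hz' => ⟨v.inf_le_core hN₁H hN₁n hxH hodd hxN₁
      ⟨hRT (hZR hz'), Subgroup.mem_sup_left hz'⟩, Subgroup.mem_sup_right (hZR hz')⟩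
    intro w hw
    rw [← hBb]
    exact ⟨hQXR (hVQX hw), Subgroup.mem_centralizer_iff.2 fun z hz' =>
      BBlock.omegaOneCenter_comm 2 QX hw (hZQX hz')⟩
  -- the root
  have hBn : B ≤ H := hBR.trans (hRT.trans hTH)
  have root : Root Q B V (C'.map f) x (K'.map f) :=
    { vB := hVB
      vQ := hVQX.trans inf_le_left
      velem := hVel
      bV := hBn.trans hVn
      xV := hxV
      odd := hodd
      cB := Subgroup.map_mono d.cB
      cN := by
        rintro _ ⟨b, hb, rfl⟩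
        refine ZJFailure.mem_normalizer_of_forall ?_
        rintro _ ⟨w, hw, rfl⟩
        refine ⟨b * w * b⁻¹, ?_, by simp⟩
        rw [show b * w * b⁻¹ = b * w * b⁻¹ * w⁻¹ * w by group]
        exact mul_mem (d.zC (c.comm_tB L hb (d.cB hw))) hw
      wxC := by
        rw [hwmap]
        rintro _ ⟨w, hw, rfl⟩
        refine Subgroup.mem_centralizer_iff.2 ?_
        rintro _ ⟨b, hb, rfl⟩
        exact congrArg Subtype.val (Subgroup.mem_centralizer_iff.1 (d.wxC hw) b hb)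
      qB := fun q hq => by
        have hqR := hBR hq.2
        obtain ⟨q', hq', rfl⟩ := hq.2
        exact ⟨q', d.zC ⟨hQY ⟨hq.1, Subgroup.mem_sup_right hqR⟩, hq'⟩, rfl⟩
      kle := hwmap ▸ Subgroup.map_mono d.kle
      kne := hKne
      idx := by
        rw [hwmap, hBdef, Subgroup.relIndex_map_map_of_injective _ _ hfi,
          Subgroup.relIndex_map_map_of_injective _ _ hfi]
        exact d.idx
      move := by
        rintro _ ⟨b, hb, rfl⟩ hbC w hw hwK hc
        rw [hwmap] at hw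
        obtain ⟨w', hw', rfl⟩ := hw
        exact d.move b hb (fun h => hbC ⟨b, h, rfl⟩) w' hw' (fun h => hwK ⟨w', h, rfl⟩) (Subtype.ext hc.eq)
      comm := by
        rintro _ ⟨b, hb, rfl⟩
        exact hvV ⟨_, d.comm b hb, rfl⟩
      irr := by
        rintro _ ⟨w, hw, rfl⟩ hxw
        obtain ⟨y, hy, e⟩ := hxw
        have h1 : x' * w * x'⁻¹ = y := Subtype.ext e.symm
        rw [d.irr w hw (h1 ▸ hy), map_one]
      qx := fun q hq => by
        have hd := hQQX q hq x (hYX hxY)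
        set z := ⁅q, x⁆ with hzdef
        have hzx : ⁅z, x⁆ ∈ V := hvV ⟨_, d.coreComm ⟨z, hQXY hd⟩ (hQY hd), rfl⟩
        have hzV : z⁻¹ ∈ V := by
          refine push_down' (p := 2) (r := x) (q := q) hxV (hVn (hTH (hQT hq))) (Nat.coprime_two_right.2 hodd)
            (by rw [hzdef, commutatorElement_def]; group) ?_ ?_
          · obtain ⟨j, hj⟩ := T.2 ⟨z⁻¹, inv_mem (hQT hd.1)⟩
            exact ⟨j, by rw [show z⁻¹ ^ 2 ^ j = 1 from congrArg Subtype.val hj]; exact one_mem _⟩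
          · have h2 := (Subgroup.mem_normalizer_iff.1 (hVn (hXH (inv_mem hd.2 : z⁻¹ ∈ X))) _).1 hzx
            rwa [show z⁻¹ * ⁅z, x⁆ * z⁻¹⁻¹ = x * z⁻¹ * x⁻¹ * z⁻¹⁻¹ by rw [commutatorElement_def]; group] at h2
        obtain ⟨u, hu, e⟩ := exists_comm_eq hVel hxV hodd (inv_mem_iff.1 hzV : z ∈ V)
        rw [hzdef, e]
        exact mem_wx_of_mem hu
      big := by
        obtain ⟨A, hA, hAC⟩ := d.big
        have hAB : A ≤ tB P := (le_tJ hA).trans (tJ_le_tB P)
        refine ⟨A.map f, Subgroup.map_mono hAB, ⟨?_, ?_⟩, fun D hD hD2 => ?_, ?_⟩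
        · rintro _ ⟨a, ha, rfl⟩ _ ⟨b, hb, rfl⟩
          rw [← map_mul, ← map_mul]
          exact congrArg f (congrArg Subtype.val (hA.1.1.1.is_comm.comm ⟨a, ha⟩ ⟨b, hb⟩))
        · rintro _ ⟨a, ha, rfl⟩
          rw [← map_mul, ← pow_two, hA.1.1.2 a ha, map_one]
        · have hDY : D ≤ Y := hD.trans (Subgroup.map_subtype_le _)
          have hel : IsElementaryAbelian 2 (D.subgroupOf Y) :=
            ⟨⟨⟨fun a b => Subtype.ext (Subtype.ext (hD2.1 _ a.2 _ b.2))⟩⟩,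
              fun a ha => Subtype.ext (by
                rw [SubmonoidClass.coe_pow, pow_two]
                exact hD2.2 _ ha)⟩
          rw [Subgroup.card_map_of_injective hfi, ← Nat.card_congr (Subgroup.subgroupOfEquivOfLe hDY).toEquiv]
          exact hA.1.2 _ hel
        · rw [← Subgroup.map_sup]
          exact Subgroup.map_mono hAC }
  have hcap : ∀ b ∈ B, (∀ t ∈ (T : Subgroup G), b ∈ Subgroup.centralizer (cj t (wx V x) : Set G)) → b ∈ Q := by
    intro b hb hcb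
    set W : Subgroup G := ⨆ t : (T : Subgroup G), cj (t : G) (wx V x) with hW
    have hWV : W ≤ V := iSup_le fun t => by
      have h := cj_mono (t : G) (wx_le_of hxV)
      rwa [cj_eq_of_normalizer (hVn (hTH t.2))] at h
    have hwW : wx V x ≤ W := by
      have h := le_iSup (fun t : (T : Subgroup G) => cj (t : G) (wx V x)) 1
      simpa [cj_one] using h
    have hWn : H ≤ Subgroup.normalizer (W : Set G) := by
      refine (v.gen hxH hxM).trans (sup_le (fun t ht => ?_) (Subgroup.zpowers_le.2 ?_))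
      · refine mem_normalizer_of_cj (Subgroup.eq_of_le_of_card_ge ?_ (card_cj t W).ge)
        rw [hW, cj, Subgroup.map_iSup]
        refine iSup_le fun s => ?_
        have h := le_iSup (fun t : (T : Subgroup G) => cj (t : G) (wx V x)) (⟨t, ht⟩ * s)
        simp only [Subgroup.coe_mul, cj_mul] at h
        exact h
      · refine ZJFailure.mem_normalizer_of_forall fun w hw => ?_
        have h1 : ⁅w⁻¹, x⁆ ∈ W := hwW (mem_wx_of_mem (hWV (inv_mem hw)))
        have h2 := mul_mem hw h1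
        rwa [show w * ⁅w⁻¹, x⁆ = x * w * x⁻¹ by rw [commutatorElement_def]; group] at h2
    have hKn : H ≤ Subgroup.normalizer ((H ⊓ Subgroup.centralizer (W : Set G) : Subgroup G) : Set G) := fun g hg =>
      ZJFailure.mem_normalizer_of_forall fun y hy => Subgroup.mem_inf.2 ⟨mul_mem (mul_mem hg hy.1) (inv_mem hg),
        (Subgroup.mem_normalizer_iff.1 (BBlock.normalizer_le_normalizer_centralizer W (hWn hg)) y).1 hy.2⟩
    refine v.inf_le_core inf_le_left hKn hxH hodd (fun h => hxcent W hwW h.2) ⟨hRT (hBR hb), hBn hb, ?_⟩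
    have hle : W ≤ Subgroup.centralizer {b} := iSup_le fun t w hw =>
      Subgroup.mem_centralizer_singleton_iff.2 (Subgroup.mem_centralizer_iff.1 (hcb t t.2) w hw)
    exact Subgroup.mem_centralizer_iff.2 fun w hw => Subgroup.mem_centralizer_singleton_iff.1 (hle hw)
  have hMB : M₀ ≤ Subgroup.normalizer (B : Set G) := hBb ▸ hMB₀
  obtain ⟨R₀, h1, h2, h3⟩ := core root hTM hMB (hBR.trans hRT) (hTH.trans hVn) (hTH.trans hQn) T.2
    (odd_relIndex T hTM) (v.gen hxH hxM) (fun S hS hne' hn => exists_local hev T hS hne' hn)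
    (fun O hO hn => le_pCoreOf (hO.trans hTH) hn (T.2.to_le hO)) hcap
  exact ⟨R₀, h1, hBb ▸ h2, h3⟩

/-- **The common normal subgroup.** -/
theorem common (hev : IsOfEvenCharacteristic G) (T : Sylow 2 G) {M₀ H : Subgroup G} (hTM : (T : Subgroup G) ≤ M₀)
    (hTH : (T : Subgroup G) ≤ H) (hne : pCore 2 ↥H ≠ ⊥)
    (hU : ∃! K : Subgroup ↥H, IsCoatom K ∧ (T : Subgroup G).subgroupOf H ≤ K)
    {R : Subgroup G} (hR : R ≠ ⊥) (hRT : R ≤ (T : Subgroup G))
    (hRS : ∃ P : Sylow 2 ↥(oddGenerated H ⊔ R),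
      (P : Subgroup ↥(oddGenerated H ⊔ R)) = R.subgroupOf (oddGenerated H ⊔ R))
    (hRM : M₀ ≤ Subgroup.normalizer (R : Set G)) :
    ∃ R₀ : Subgroup G, R₀ ≠ ⊥ ∧ R₀ ≤ R ∧ M₀ ⊔ H ≤ Subgroup.normalizer (R₀ : Set G) := by
  by_cases hz : H ≤ Subgroup.normalizer (omegaOneCenter 2 R : Set G)
  · exact ⟨omegaOneCenter 2 R, omegaOneCenter_ne_bot (T.2.to_le hRT) hR, BBlock.omegaOneCenter_le 2 R,
      sup_le (hRM.trans (BBlock.normalizer_le_normalizer_omegaOneCenter 2 R)) hz⟩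
  · obtain ⟨R₀, h1, h2, h3⟩ := common_of_baumann hev T hTM hTH hne hU hR hRT hRS (hTM.trans hRM)
      (hRM.trans (normalizer_le_baumann R)) hz
    exact ⟨R₀, h1, h2.trans inf_le_left, h3⟩

end CfsgLib.QTPush
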