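import Cfsg.Agent.Lib.QTPush.Basic
import Mathlib.GroupTheory.GroupAction.Quotient
import Mathlib.Algebra.Group.Subgroup.Pointwise

/-!
Transporting root data by conjugation, and counting conjugates.
-/

set_option autoImplicit false

namespace CfsgLib.QTPush

open scoped commutatorElement Pointwise

universe u

variable {G : Type u} [Group G]

theorem mem_cj {g y : G} {A : Subgroup G} : y ∈ cj g A ↔ g⁻¹ * y * g ∈ A := by
  constructor
  · rintro ⟨a, ha, rfl⟩
    simpa [mul_assoc] using ha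
  · intro h
    exact ⟨_, h, by simp [mul_assoc]⟩

theorem conj_mem_cj {g a : G} {A : Subgroup G} (ha : a ∈ A) : g * a * g⁻¹ ∈ cj g A := mem_cj.2 (by simpa [mul_assoc] using ha)

theorem cj_one (A : Subgroup G) : cj (1 : G) A = A := by
  ext y; rw [mem_cj]; simp

theorem cj_mul (g h : G) (A : Subgroup G) : cj (g * h) A = cj g (cj h A) := by
  ext y; rw [mem_cj, mem_cj, mem_cj]; simp [mul_assoc]

theorem cj_le_cj {g : G} {A B : Subgroup G} : cj g A ≤ cj g B ↔ A ≤ B :=
  Subgroup.map_le_map_iff_of_injective (MulEquiv.injective _)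

theorem cj_mono (g : G) {A B : Subgroup G} (h : A ≤ B) : cj g A ≤ cj g B := Subgroup.map_mono h

theorem cj_inj {g : G} {A B : Subgroup G} (h : cj g A = cj g B) : A = B :=
  le_antisymm (cj_le_cj.1 h.le) (cj_le_cj.1 h.ge)

theorem cj_inf (g : G) (A B : Subgroup G) : cj g (A ⊓ B) = cj g A ⊓ cj g B :=
  Subgroup.map_inf _ _ _ (MulEquiv.injective _)

theorem cj_centralizer (g : G) (A : Subgroup G) :
    cj g (Subgroup.centralizer (A : Set G)) = Subgroup.centralizer (cj g A : Set G) := by
  ext y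
  rw [mem_cj, Subgroup.mem_centralizer_iff, Subgroup.mem_centralizer_iff]
  constructor
  · intro h a ha
    have := h (g⁻¹ * a * g) (mem_cj.1 ha)
    calc a * y = g * (g⁻¹ * a * g * (g⁻¹ * y * g)) * g⁻¹ := by group
      _ = g * (g⁻¹ * y * g * (g⁻¹ * a * g)) * g⁻¹ := by rw [this]
      _ = y * a := by group
  · intro h a ha
    have := h _ (conj_mem_cj (g := g) ha)
    calc a * (g⁻¹ * y * g) = g⁻¹ * (g * a * g⁻¹ * y) * g := by group
      _ = g⁻¹ * (y * (g * a * g⁻¹)) * g := by rw [this]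
      _ = g⁻¹ * y * g * a := by group

theorem cj_eq_of_normalizer {g : G} {A : Subgroup G} (h : g ∈ Subgroup.normalizer (A : Set G)) : cj g A = A := by
  ext y
  rw [mem_cj]
  have := Subgroup.mem_normalizer_iff.1 (inv_mem h) y
  simpa using this.symm

theorem mem_normalizer_of_cj {g : G} {A : Subgroup G} (h : cj g A = A) : g ∈ Subgroup.normalizer (A : Set G) := by
  refine Subgroup.mem_normalizer_iff.2 fun y => ?_
  conv_rhs => rw [← h, mem_cj]
  simp [mul_assoc]

theorem cj_commutator (g : G) (A B : Subgroup G) : cj g ⁅A, B⁆ = ⁅cj g A, cj g B⁆ := Subgroup.map_commutator _ _ _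

theorem cj_wx (g : G) (V : Subgroup G) (x : G) : cj g (wx V x) = wx (cj g V) (g * x * g⁻¹) := by
  rw [wx, wx, cj, MonoidHom.map_closure]
  congr 1
  ext w
  constructor
  · rintro ⟨_, ⟨v, hv, rfl⟩, rfl⟩
    exact ⟨_, conj_mem_cj hv, by simp [commutatorElement_def, mul_assoc]⟩
  · rintro ⟨v, hv, rfl⟩
    exact ⟨_, ⟨_, mem_cj.1 hv, rfl⟩, by simp [commutatorElement_def, mul_assoc]⟩

theorem cj_wOf (g : G) (V C : Subgroup G) : cj g (wOf V C) = wOf (cj g V) (cj g C) := by
  rw [wOf, cj_inf, cj_centralizer]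

theorem cj_yOf (g : G) (V B : Subgroup G) : cj g (yOf V B) = yOf (cj g V) (cj g B) := by
  rw [yOf, cj_inf, cj_centralizer]

theorem cj_relIndex (g : G) (A B : Subgroup G) : (cj g A).relIndex (cj g B) = A.relIndex B :=
  Subgroup.relIndex_map_map_of_injective _ _ (MulEquiv.injective _)

theorem Elem2.cj {A : Subgroup G} (h : Elem2 A) (g : G) : Elem2 (QTPush.cj g A) := by
  constructor
  · rintro _ ⟨a, ha, rfl⟩ _ ⟨b, hb, rfl⟩
    rw [← map_mul, h.1 a ha b hb, map_mul]
  · rintro _ ⟨a, ha, rfl⟩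
    rw [← map_mul, h.2 a ha, map_one]

theorem commute_conj {g a b : G} (h : Commute a b) : Commute (g * a * g⁻¹) (g * b * g⁻¹) := by
  rw [Commute, SemiconjBy]
  calc g * a * g⁻¹ * (g * b * g⁻¹) = g * (a * b) * g⁻¹ := by group
    _ = g * (b * a) * g⁻¹ := by rw [h.eq]
    _ = _ := by group

theorem card_cj (g : G) (A : Subgroup G) : Nat.card ↥(cj g A) = Nat.card A :=
  Subgroup.card_map_of_injective (MulEquiv.injective _)

theorem Root.conj {Q B V C K : Subgroup G} {x : G} (r : Root Q B V C x K) {g : G} (hg : cj g B = B) :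
    Root (cj g Q) B (cj g V) (cj g C) (g * x * g⁻¹) (cj g K) where
  vB := hg ▸ cj_mono g r.vB
  vQ := cj_mono g r.vQ
  velem := r.velem.cj g
  bV := by
    intro b hb
    rw [← hg] at hb
    refine mem_normalizer_of_cj ?_
    obtain ⟨b', hb', rfl⟩ := hb
    show QTPush.cj (g * b' * g⁻¹) _ = _
    rw [← cj_mul, show g * b' * g⁻¹ * g = g * b' by group, cj_mul, cj_eq_of_normalizer (r.bV hb')]
  xV := by
    refine mem_normalizer_of_cj ?_
    rw [← cj_mul, show g * x * g⁻¹ * g = g * x by group, cj_mul, cj_eq_of_normalizer r.xV]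
  odd := by
    have h := orderOf_injective (MulAut.conj g).toMonoidHom (MulEquiv.injective _) x
    simp only [MulEquiv.coe_toMonoidHom, MulAut.conj_apply] at h
    rw [h]; exact r.odd
  cB := hg ▸ cj_mono g r.cB
  cN := by
    intro b hb
    rw [← hg] at hb
    refine mem_normalizer_of_cj ?_
    obtain ⟨b', hb', rfl⟩ := hb
    show QTPush.cj (g * b' * g⁻¹) _ = _
    rw [← cj_mul, show g * b' * g⁻¹ * g = g * b' by group, cj_mul, cj_eq_of_normalizer (r.cN hb')]
  wxC := by rw [← cj_wx, ← cj_centralizer]; exact cj_mono g r.wxC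
  qB := by conv_lhs => rw [← hg, ← cj_inf]
           exact cj_mono g r.qB
  kle := by rw [← cj_wx]; exact cj_mono g r.kle
  kne := by rw [← cj_wx, cj_le_cj]; exact r.kne
  idx := by
    rw [← cj_wx, cj_relIndex, ← r.idx]
    conv_lhs => rw [← hg, cj_relIndex]
  move := by
    intro b hb hbC w hw hwK hcomm
    rw [← hg] at hb
    rw [← cj_wx] at hw
    have hb' := mem_cj.1 hb
    have hw' := mem_cj.1 hw
    refine r.move _ hb' (fun h => hbC (mem_cj.2 h)) _ hw' (fun h => hwK (mem_cj.2 h)) ?_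
    have h2 := commute_conj (g := g⁻¹) hcomm
    have e1 : g⁻¹ * ⁅w, b⁆ * g⁻¹⁻¹ = ⁅g⁻¹ * w * g, g⁻¹ * b * g⁆ := by simp only [commutatorElement_def]; group
    have e2 : g⁻¹ * (g * x * g⁻¹) * g⁻¹⁻¹ = x := by group
    rwa [e1, e2] at h2
  comm := by
    rintro _ ⟨c, hc, rfl⟩
    exact ⟨_, r.comm c hc, by simp [commutatorElement_def, mul_assoc]⟩
  irr := by
    intro w hw hxw
    have h1 := r.irr _ (mem_cj.1 hw) (by simpa [mul_assoc] using mem_cj.1 hxw)
    calc w = g * (g⁻¹ * w * g) * g⁻¹ := by group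
      _ = 1 := by rw [h1, mul_one, mul_inv_cancel]
  qx := by
    rintro _ ⟨q, hq, rfl⟩
    rw [← cj_wx]
    exact ⟨_, r.qx q hq, by simp [commutatorElement_def, mul_assoc]⟩
  big := by
    obtain ⟨A, hAB, hA, hmax, hgen⟩ := r.big
    refine ⟨QTPush.cj g A, hg ▸ cj_mono g hAB, hA.cj g, fun E hE hE2 => ?_, ?_⟩
    · have h := cj_mono g⁻¹ hE
      conv_rhs at h => rw [← hg, ← cj_mul, inv_mul_cancel, cj_one]
      have := hmax _ h (hE2.cj _)
      rw [card_cj] at this
      rwa [card_cj]
    · conv_lhs => rw [← hg]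
      rw [cj, cj, cj, ← Subgroup.map_sup]
      exact cj_mono g hgen

/-- The conjugates of `X` under `M`. -/
def cjOrbit (M X : Subgroup G) : Set (Subgroup G) := (fun g => cj g X) '' (M : Set G)

theorem ncard_cjOrbit [Finite G] (M X : Subgroup G) :
    (cjOrbit M X).ncard = (Subgroup.normalizer (X : Set G)).relIndex M := by
  let f : M ⧸ (Subgroup.normalizer (X : Set G)).subgroupOf M → Subgroup G := fun q =>
    Quotient.liftOn' q (fun g => cj (g : G) X) fun a b h => by
      rw [QuotientGroup.leftRel_apply, Subgroup.mem_subgroupOf, Subgroup.coe_mul, Subgroup.coe_inv] at h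
      have := cj_eq_of_normalizer h
      rw [cj_mul] at this
      conv_lhs => rw [← this, ← cj_mul, ← cj_mul, mul_inv_cancel, one_mul]
  have hf : Function.Injective f := by
    intro a b h
    induction a using Quotient.inductionOn' with | _ a => ?_
    induction b using Quotient.inductionOn' with | _ b => ?_
    refine Quotient.sound' ?_
    rw [QuotientGroup.leftRel_apply, Subgroup.mem_subgroupOf, Subgroup.coe_mul, Subgroup.coe_inv]
    refine mem_normalizer_of_cj ?_
    change cj (a : G) X = cj (b : G) X at h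
    rw [cj_mul, ← h, ← cj_mul, inv_mul_cancel, cj_one]
  have he : Set.range f = cjOrbit M X := by
    ext Y
    constructor
    · rintro ⟨q, rfl⟩
      induction q using Quotient.inductionOn' with | _ a => exact ⟨a, a.2, rfl⟩
    · rintro ⟨g, hg, rfl⟩
      exact ⟨Quotient.mk'' ⟨g, hg⟩, rfl⟩
  rw [← he, ← Set.image_univ, Set.ncard_image_of_injective _ hf, Set.ncard_univ]
  rfl

end CfsgLib.QTPush
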