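import Cfsg.Agent.Lib.QTPush.Core

/-!
Pushing up when the second overgroup normalizes `T`: no two-local input is needed.
-/

set_option autoImplicit false
set_option linter.unusedSectionVars false

namespace CfsgLib.QTPush

open scoped commutatorElement Pointwise

universe u

variable {G : Type u} [Group G] [Finite G] {Q B V C K T M₀ H : Subgroup G} {x : G}

/-- No adjacency inside the frame. -/
theorem core_hall (r : Root Q B V C x K) (hTM : T ≤ M₀) (hMB : M₀ ≤ Subgroup.normalizer (B : Set G))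
    (hTV : T ≤ Subgroup.normalizer (V : Set G)) (hTQ : T ≤ Subgroup.normalizer (Q : Set G))
    (hodd : Odd (T.relIndex M₀)) {g₀ t₀ : G} (hg₀ : g₀ ∈ M₀) (ht₀ : t₀ ∈ T)
    (hadj₀ : ¬ wOf (cj g₀ V) (cj g₀ C) ≤ cj t₀ C)
    (hall : ∀ g ∈ M₀, ∃ t ∈ T, cj g (lOf V B C) = cj t (lOf V B C)) : False := by
  have hB : ∀ g ∈ M₀, cj g B = B := fun g hg => cj_eq_of_normalizer (hMB hg)
  have R : ∀ g ∈ M₀, Root (cj g Q) B (cj g V) (cj g C) (g * x * g⁻¹) (cj g K) := fun g hg => r.conj (hB g hg)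
  have hq : ∀ g ∈ M₀, ∀ h ∈ M₀, (cj g C).relIndex B = (cj h C).relIndex B := fun g hg h hh => by
    rw [← congrArg (Subgroup.relIndex (cj g C)) (hB g hg), ← congrArg (Subgroup.relIndex (cj h C)) (hB h hh),
      cj_relIndex, cj_relIndex]
  -- adjacency
  let adj : G → G → Prop := fun g h => ¬ cj g (wOf V C) ≤ cj h C
  have adj_symm : ∀ g ∈ M₀, ∀ h ∈ M₀, adj g h → adj h g := fun g hg h hh ha e => ha (by
    rw [cj_wOf] at e ⊢
    exact (R g hg).nonadj_symm (R h hh) e)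
  have adj_mul : ∀ k g h : G, adj g h → adj (k * g) (k * h) := fun k g h ha e => ha (by
    rwa [cj_mul, cj_mul, cj_le_cj] at e)
  have adj_self : ¬ adj 1 1 := fun h => h (by rw [cj_one, cj_one]; exact inf_le_left.trans r.v_le_c)
  have hadj : adj g₀ t₀ := by
    show ¬ _ ≤ _
    rw [cj_wOf]; exact hadj₀
  have nb : ∀ g ∈ M₀, ∃ h ∈ M₀, adj g h := fun g hg =>
    ⟨g * g₀⁻¹ * t₀, mul_mem (mul_mem hg (inv_mem hg₀)) (hTM ht₀), by
      have := adj_mul (g * g₀⁻¹) g₀ t₀ hadj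
      rwa [inv_mul_cancel_right] at this⟩
  -- the derived subgroup of a vertex
  let L : G → Subgroup G := fun g => cj g (lOf V B C)
  have hL : ∀ g ∈ M₀, L g = lOf (cj g V) B (cj g C) := fun g hg => by
    show cj g ⁅_, B⁆ = _
    rw [cj_commutator, cj_wOf, hB g hg]
  have hLmul : ∀ k g : G, L (k * g) = cj k (L g) := fun k g => cj_mul k g _
  have L_edge : ∀ g ∈ M₀, ∀ h ∈ M₀, adj g h → L g = L h := fun g hg h hh ha => by
    rw [hL g hg, hL h hh]
    exact ((R h hh).l_eq_of_adj (R g hg) (hq h hh g hg) (by rw [← cj_wOf]; exact ha)).symm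
  have L_cent : ∀ g ∈ M₀, ∀ h ∈ M₀, L g ≠ L h → L g ≤ Subgroup.centralizer {h * x * h⁻¹} := fun g hg h hh hne => by
    obtain ⟨g', hg', ha⟩ := nb g hg
    have h1 : ¬ adj g h := fun e => hne (L_edge g hg h hh e)
    have h2 : ¬ adj g' h := fun e => hne ((L_edge g hg g' hg' ha).trans (L_edge g' hg' h hh e))
    simp only [adj, not_not, cj_wOf] at h1 h2
    rw [hL g hg]
    exact (R h hh).le_centralizer_of_l_eq (R g hg) (R g' hg') (hq g hg g' hg')
      (by rw [← cj_wOf]; exact adj_symm g hg g' hg' ha) h1 h2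
  have L_not : ∀ g ∈ M₀, ¬ L g ≤ Subgroup.centralizer {g * x * g⁻¹} := fun g hg => by
    rw [hL g hg]; exact (R g hg).l_not_le
  have frame : ∀ t ∈ T, L t = L 1 → cj t C = C := fun t ht he => by
    by_contra hne
    have rt : Root Q B V (cj t C) (t * x * t⁻¹) (cj t K) := by
      have := R t (hTM ht)
      rwa [cj_eq_of_normalizer (hTQ ht), cj_eq_of_normalizer (hTV ht)] at this
    have hidx : C.relIndex B = (cj t C).relIndex B := by
      have := hq 1 (one_mem _) t (hTM ht)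
      rwa [cj_one] at this
    have h1 := r.same_le rt hidx (Ne.symm hne)
    have h2 : L t = lOf V B (cj t C) := by
      rw [hL t (hTM ht), cj_eq_of_normalizer (hTV ht)]
    refine L_not 1 (one_mem _) ?_
    rw [← he, h2, one_mul, inv_one, mul_one]
    exact h1
  -- every vertex sees a frame vertex's derived subgroup
  set N := Subgroup.normalizer (L 1 : Set G) with hN
  set M₁ := M₀ ⊓ N with hM₁
  have mem_M₁ : ∀ g ∈ M₀, L g = L 1 → g ∈ M₁ := fun g hg e => ⟨hg, mem_normalizer_of_cj (by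
    rw [← hLmul, mul_one]; exact e)⟩
  have L_M₁ : ∀ g ∈ M₁, L g = L 1 := fun g hg => by
    rw [← mul_one g, hLmul, cj_eq_of_normalizer hg.2]
  set T₁ := T ⊓ N with hT₁
  have hT₁W : T₁ ≤ Subgroup.normalizer (wOf V C : Set G) := fun t ht => by
    have hC := frame t ht.1 (L_M₁ t ⟨hTM ht.1, ht.2⟩)
    refine mem_normalizer_of_cj ?_
    rw [cj_wOf, hC, cj_eq_of_normalizer (hTV ht.1)]
  -- the size of the fibre is odd
  have horb : cjOrbit M₀ (L 1) = cjOrbit T (L 1) := by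
    refine Set.eq_of_subset_of_subset ?_ (Set.image_mono hTM)
    rintro _ ⟨g, hg, rfl⟩
    obtain ⟨t, ht, e⟩ := hall g hg
    refine ⟨t, ht, ?_⟩
    show cj t (L 1) = cj g (L 1)
    rw [← hLmul, ← hLmul, mul_one, mul_one]
    exact e.symm
  have hrel : N.relIndex M₀ = N.relIndex T := by
    rw [← ncard_cjOrbit, ← ncard_cjOrbit, horb]
  have hodd₁ : Odd (T₁.relIndex M₁) := by
    have h1 := Subgroup.relIndex_mul_relIndex T₁ T M₀ inf_le_left hTM
    have h2 := Subgroup.relIndex_mul_relIndex T₁ M₁ M₀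
      (le_inf (inf_le_left.trans hTM) inf_le_right) inf_le_left
    rw [hT₁, Subgroup.inf_relIndex_left] at h1
    rw [hM₁, Subgroup.inf_relIndex_left, hrel, ← h1, mul_comm (N.relIndex T)] at h2
    rw [Nat.eq_of_mul_eq_mul_right (relIndex_pos _ _) h2]
    exact hodd
  set Om := cjOrbit M₁ (wOf V C) with hOm
  have hOodd : Odd Om.ncard := by
    rw [hOm, ncard_cjOrbit]
    exact hodd₁.of_dvd_nat (Subgroup.relIndex_dvd_of_le_left M₁ hT₁W)
  -- and even
  obtain ⟨g₁, hg₁, ha₁⟩ := nb 1 (one_mem _)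
  have hg₁M : g₁ ∈ M₁ := mem_M₁ g₁ hg₁ (L_edge 1 (one_mem _) g₁ hg₁ ha₁).symm
  have trans' : ∀ g ∈ M₁, ∀ h ∈ M₁, ∀ k ∈ M₁, ¬ adj g h → ¬ adj k h → ¬ adj g k := fun g hg h hh k hk h1 h2 ha => by
    simp only [adj, not_not, cj_wOf] at h1 h2
    refine L_not h hh.1 ?_
    rw [L_M₁ h hh, ← L_M₁ g hg, hL g hg.1]
    exact (R h hh.1).le_centralizer_of_l_eq (R g hg.1) (R k hk.1) (hq g hg.1 k hk.1)
      (by rw [← cj_wOf]; exact adj_symm g hg.1 k hk.1 ha) h1 h2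
  have notri : ∀ g ∈ M₁, ∀ h ∈ M₁, ∀ k ∈ M₁, adj g h → adj k h → ¬ adj g k := fun g hg h hh k hk h1 h2 h3 => by
    refine (R h hh.1).no_triangle (R g hg.1) (R k hk.1) (hq h hh.1 g hg.1) (hq h hh.1 k hk.1)
      (by rw [← cj_wOf]; exact h1) (by rw [← cj_wOf]; exact adj_symm g hg.1 k hk.1 h3) (by rw [← cj_wOf]; exact h2)
  set A := {X ∈ Om | X ≤ C} with hA
  set A' := {X ∈ Om | ¬ X ≤ C} with hA'
  have hdisj : Disjoint A A' := Set.disjoint_left.2 fun X h1 h2 => h2.2 h1.2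
  have hunion : Om = A ∪ A' := by ext X; simp only [hA, hA', Set.mem_union, Set.mem_setOf_eq]; tauto
  have swap : ∀ X ∈ Om, (cj g₁ X ∈ Om) ∧ (X ≤ C ↔ ¬ cj g₁ X ≤ C) := by
    rintro _ ⟨g, hg, rfl⟩
    refine ⟨⟨g₁ * g, mul_mem hg₁M hg, cj_mul _ _ _⟩, ?_⟩
    rw [← cj_mul]
    have hgg : g₁ * g ∈ M₁ := mul_mem hg₁M hg
    have e1 : ¬ adj g 1 ↔ cj g (wOf V C) ≤ C := by simp only [adj, not_not, cj_one]
    have e2 : adj (g₁ * g) 1 ↔ ¬ cj (g₁ * g) (wOf V C) ≤ C := by simp only [adj, cj_one]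
    rw [← e1, ← e2]
    have h1g₁ : adj g₁ 1 := adj_symm 1 (one_mem _) g₁ hg₁ ha₁
    constructor
    · intro h
      have h' : ¬ adj (g₁ * g) g₁ := fun e => h (by
        have := adj_mul g₁⁻¹ _ _ e
        rwa [inv_mul_cancel_left, inv_mul_cancel] at this)
      by_contra h2
      exact trans' g₁ hg₁M (g₁ * g) hgg 1 (one_mem _)
        (fun e => h' (adj_symm g₁ hg₁ _ hgg.1 e))
        (fun e => (adj_symm 1 (one_mem _) _ hgg.1 e) h2) h1g₁
    · intro h2 h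
      have h' : adj (g₁ * g) g₁ := by
        have := adj_mul g₁ _ _ h
        rwa [mul_one] at this
      exact notri g₁ hg₁M (g₁ * g) hgg 1 (one_mem _)
        (adj_symm _ hgg.1 g₁ hg₁ h') (adj_symm _ hgg.1 1 (one_mem _) h2) h1g₁
  have hfinA : A.Finite := Set.toFinite _
  have hfinA' : A'.Finite := Set.toFinite _
  have hle1 : A.ncard ≤ A'.ncard := Set.ncard_le_ncard_of_injOn (fun X => cj g₁ X)
    (fun X hX => ⟨(swap X hX.1).1, (swap X hX.1).2.1 hX.2⟩) (fun _ _ _ _ h => cj_inj h) hfinA'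
  have hle2 : A'.ncard ≤ A.ncard := Set.ncard_le_ncard_of_injOn (fun X => cj g₁ X)
    (fun X hX => ⟨(swap X hX.1).1, not_not.1 fun h => hX.2 ((swap X hX.1).2.2 h)⟩)
    (fun _ _ _ _ h => cj_inj h) hfinA
  rw [hunion, Set.ncard_union_eq hdisj hfinA hfinA', le_antisymm hle1 hle2, Nat.odd_iff] at hOodd
  omega

/-- Pushing up against an overgroup in which `T` is normal. -/
theorem core_normal (r : Root Q B V C x K) (hTM : T ≤ M₀) (hMT : M₀ ≤ Subgroup.normalizer (T : Set G))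
    (hMB : M₀ ≤ Subgroup.normalizer (B : Set G))
    (hTV : T ≤ Subgroup.normalizer (V : Set G)) (hTQ : T ≤ Subgroup.normalizer (Q : Set G))
    (hodd : Odd (T.relIndex M₀)) (hgen : H ≤ T ⊔ Subgroup.zpowers x)
    (hcap : ∀ b ∈ B, (∀ t ∈ T, b ∈ Subgroup.centralizer (cj t (wx V x) : Set G)) → b ∈ Q) :
    ∃ R₀ : Subgroup G, R₀ ≠ ⊥ ∧ R₀ ≤ B ∧ M₀ ⊔ H ≤ Subgroup.normalizer (R₀ : Set G) := by
  by_cases hno : ∀ g ∈ M₀, ∀ t ∈ T, wOf (cj g V) (cj g C) ≤ cj t C
  · exact core_nonadj r hTM hMB hgen hcap hno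
  exfalso
  push Not at hno
  obtain ⟨g₀, hg₀, t₀, ht₀, hadj₀⟩ := hno
  have hB : ∀ g ∈ M₀, cj g B = B := fun g hg => cj_eq_of_normalizer (hMB hg)
  have R : ∀ g ∈ M₀, Root (cj g Q) B (cj g V) (cj g C) (g * x * g⁻¹) (cj g K) := fun g hg => r.conj (hB g hg)
  have hq : ∀ g ∈ M₀, ∀ h ∈ M₀, (cj g C).relIndex B = (cj h C).relIndex B := fun g hg h hh => by
    rw [← congrArg (Subgroup.relIndex (cj g C)) (hB g hg), ← congrArg (Subgroup.relIndex (cj h C)) (hB h hh),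
      cj_relIndex, cj_relIndex]
  -- adjacency
  let adj : G → G → Prop := fun g h => ¬ cj g (wOf V C) ≤ cj h C
  have adj_symm : ∀ g ∈ M₀, ∀ h ∈ M₀, adj g h → adj h g := fun g hg h hh ha e => ha (by
    rw [cj_wOf] at e ⊢
    exact (R g hg).nonadj_symm (R h hh) e)
  have adj_mul : ∀ k g h : G, adj g h → adj (k * g) (k * h) := fun k g h ha e => ha (by
    rwa [cj_mul, cj_mul, cj_le_cj] at e)
  have adj_self : ¬ adj 1 1 := fun h => h (by rw [cj_one, cj_one]; exact inf_le_left.trans r.v_le_c)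
  have hadj : adj g₀ t₀ := by
    show ¬ _ ≤ _
    rw [cj_wOf]; exact hadj₀
  have nb : ∀ g ∈ M₀, ∃ h ∈ M₀, adj g h := fun g hg =>
    ⟨g * g₀⁻¹ * t₀, mul_mem (mul_mem hg (inv_mem hg₀)) (hTM ht₀), by
      have := adj_mul (g * g₀⁻¹) g₀ t₀ hadj
      rwa [inv_mul_cancel_right] at this⟩
  -- the derived subgroup of a vertex
  let L : G → Subgroup G := fun g => cj g (lOf V B C)
  have hL : ∀ g ∈ M₀, L g = lOf (cj g V) B (cj g C) := fun g hg => by
    show cj g ⁅_, B⁆ = _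
    rw [cj_commutator, cj_wOf, hB g hg]
  have hLmul : ∀ k g : G, L (k * g) = cj k (L g) := fun k g => cj_mul k g _
  have L_edge : ∀ g ∈ M₀, ∀ h ∈ M₀, adj g h → L g = L h := fun g hg h hh ha => by
    rw [hL g hg, hL h hh]
    exact ((R h hh).l_eq_of_adj (R g hg) (hq h hh g hg) (by rw [← cj_wOf]; exact ha)).symm
  -- the part of `M₀` seeing the frame
  set N := Subgroup.normalizer (L 1 : Set G) with hN
  set M₁ := M₀ ⊓ N with hM₁
  set g₁ := t₀⁻¹ * g₀ with hg₁def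
  have hg₁ : g₁ ∈ M₀ := mul_mem (inv_mem (hTM ht₀)) hg₀
  have ha : adj g₁ 1 := by
    have := adj_mul t₀⁻¹ g₀ t₀ hadj
    rwa [inv_mul_cancel] at this
  have hg₁M : g₁ ∈ M₁ := ⟨hg₁, mem_normalizer_of_cj (by
    rw [← hLmul, mul_one]; exact L_edge g₁ hg₁ 1 (one_mem _) ha)⟩
  set M' := T ⊔ M₁ with hM'
  have hM'M : M' ≤ M₀ := sup_le hTM inf_le_left
  refine core_hall (M₀ := M') (g₀ := g₁) (t₀ := 1) r le_sup_left (hM'M.trans hMB) hTV hTQ ?_
    (Subgroup.mem_sup_right hg₁M) (one_mem _) (by rw [← cj_wOf]; exact ha) fun g hg => ?_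
  · rw [← Subgroup.relIndex_mul_relIndex T M' M₀ le_sup_left hM'M] at hodd
    exact (Nat.odd_mul.1 hodd).1
  · rw [hM', sup_comm, ← SetLike.mem_coe,
      Subgroup.coe_mul_of_left_le_normalizer_right _ _ (inf_le_left.trans hMT)] at hg
    obtain ⟨m, hm, t, ht, rfl⟩ := hg
    have hmt : m * t = m * t * m⁻¹ * m := by group
    refine ⟨m * t * m⁻¹, (Subgroup.mem_normalizer_iff.1 (hMT hm.1) t).1 ht, ?_⟩
    show L (m * t) = L (m * t * m⁻¹)
    rw [hmt, hLmul, ← mul_one m, hLmul m 1, cj_eq_of_normalizer hm.2, ← hLmul]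
    simp

end CfsgLib.QTPush
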