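import Mathlib.GroupTheory.Commutator.Basic
import Mathlib.GroupTheory.Index
import Mathlib.GroupTheory.OrderOfElement

/-!
Root data for pushing up over a common Sylow subgroup: an element of odd order, the module it moves, and the
kernel of its root group in the Baumann subgroup. (Definitions only.)
-/

set_option autoImplicit false

namespace CfsgLib.QTPush

open scoped commutatorElement

universe u

variable {G : Type u} [Group G]

/-- Conjugate of a subgroup. -/
abbrev cj (g : G) (A : Subgroup G) : Subgroup G := A.map (MulAut.conj g).toMonoidHom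

/-- `[V, x]`. -/
def wx (V : Subgroup G) (x : G) : Subgroup G := Subgroup.closure {w | ∃ v ∈ V, w = ⁅v, x⁆}

/-- An elementary abelian 2-subgroup. -/
def Elem2 (A : Subgroup G) : Prop := (∀ a ∈ A, ∀ b ∈ A, a * b = b * a) ∧ ∀ a ∈ A, a * a = 1

/-- The data of one root: `C` is the kernel in `B` of the action on `[V, x]`, and `K` is the fixed line. -/
structure Root (Q B V C : Subgroup G) (x : G) (K : Subgroup G) : Prop where
  vB : V ≤ B
  vQ : V ≤ Q
  velem : Elem2 V
  bV : B ≤ Subgroup.normalizer (V : Set G)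
  xV : x ∈ Subgroup.normalizer (V : Set G)
  odd : Odd (orderOf x)
  cB : C ≤ B
  cN : B ≤ Subgroup.normalizer (C : Set G)
  wxC : wx V x ≤ Subgroup.centralizer (C : Set G)
  qB : Q ⊓ B ≤ C
  kle : K ≤ wx V x
  kne : ¬ wx V x ≤ K
  idx : C.relIndex B = K.relIndex (wx V x)
  move : ∀ b ∈ B, b ∉ C → ∀ w ∈ wx V x, w ∉ K → ¬ Commute ⁅w, b⁆ x
  comm : ∀ c ∈ C, ⁅c, x⁆ ∈ V
  irr : ∀ w ∈ K, x * w * x⁻¹ ∈ K → w = 1
  qx : ∀ q ∈ Q, ⁅q, x⁆ ∈ wx V x
  big : ∃ A : Subgroup G, A ≤ B ∧ Elem2 A ∧ (∀ E : Subgroup G, E ≤ B → Elem2 E → Nat.card E ≤ Nat.card A) ∧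
    B ≤ A ⊔ C

end CfsgLib.QTPush
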