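import Cfsg.Agent.Lib.QTPush.Conj

/-!
Two or three roots over the same Baumann subgroup with root groups of the same size.
-/

set_option autoImplicit false

namespace CfsgLib.QTPush

open scoped commutatorElement Pointwise

universe u

variable {G : Type u} [Group G] [Finite G]

theorem exists_mul_of_mem_sup {A D : Subgroup G} (h : A ≤ Subgroup.normalizer (D : Set G)) {g : G} (hg : g ∈ A ⊔ D) :
    ∃ a ∈ A, ∃ d ∈ D, a * d = g := by
  rw [← SetLike.mem_coe, Subgroup.coe_mul_of_left_le_normalizer_right _ _ h] at hg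
  obtain ⟨a, ha, d, hd, e⟩ := hg
  exact ⟨a, ha, d, hd, e⟩

/-- The derived subgroup of a root module with the Baumann subgroup. -/
abbrev lOf (V B C : Subgroup G) : Subgroup G := ⁅wOf V C, B⁆

namespace Root

variable {Q B V C K : Subgroup G} {x : G}
  {Q' V' C' K' : Subgroup G} {x' : G} {Q'' V'' C'' K'' : Subgroup G} {x'' : G}

theorem w_le_b (r : Root Q B V C x K) : wOf V C ≤ B := inf_le_left.trans r.vB

theorem y_le_w (r : Root Q B V C x K) : yOf V B ≤ wOf V C :=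
  le_inf inf_le_left (inf_le_right.trans (Subgroup.centralizer_le r.cB))

theorem y_le_c' (r : Root Q B V C x K) (r' : Root Q' B V' C' x' K') : yOf V B ≤ C' := fun y hy =>
  (r'.mem_c_iff (r.vB hy.1)).2 fun w hw => Subgroup.mem_centralizer_iff.1 hy.2 w (r'.w_le_b hw)

theorem comm_comm (r : Root Q B V C x K) {a b : G} (ha : a ∈ C) (hb : b ∈ C) : Commute ⁅a, b⁆ x := by
  rw [comm_sq]
  exact ((r.commute_sq (mul_mem ha hb)).mul_left
    (r.commute_sq (mul_mem (mul_mem (inv_mem hb) (inv_mem ha)) hb))).mul_left (r.commute_sq (inv_mem hb))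

theorem comm_le (r : Root Q B V C x K) {A D : Subgroup G} (hA : A ≤ C) (hD : D ≤ C) :
    ⁅A, D⁆ ≤ Subgroup.centralizer {x} :=
  Subgroup.commutator_le.2 fun _ ha _ hb =>
    Subgroup.mem_centralizer_singleton_iff.2 (r.comm_comm (hA ha) (hD hb)).eq

theorem l_not_le (r : Root Q B V C x K) : ¬ lOf V B C ≤ Subgroup.centralizer {x} := by
  intro h
  obtain ⟨b, hb, hbC⟩ := r.exists_out
  obtain ⟨u, hu, huy⟩ := SetLike.not_le_iff_exists.1 r.wx_not_y
  exact huy (r.move' hb hbC (r.wx_le_w hu)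
    (Subgroup.mem_centralizer_singleton_iff.1 (h (Subgroup.commutator_mem_commutator (r.wx_le_w hu) hb))))

theorem l_ne_bot (r : Root Q B V C x K) : lOf V B C ≠ ⊥ := fun h => r.l_not_le (h ▸ bot_le)

theorem nonadj_symm (r : Root Q B V C x K) (r' : Root Q' B V' C' x' K') (h : wOf V' C' ≤ C) : wOf V C ≤ C' :=
  fun w hw => (r'.mem_c_iff (r.w_le_b hw)).2 fun v hv => Subgroup.mem_centralizer_iff.1 hw.2 v (h hv)

theorem adj_inf (r : Root Q B V C x K) (r' : Root Q' B V' C' x' K') (h : ¬ wOf V' C' ≤ C) :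
    wOf V C ⊓ C' = yOf V B := by
  refine le_antisymm (fun w hw => ?_) (le_inf r.y_le_w (r.y_le_c' r'))
  obtain ⟨b, hb, hbC⟩ := SetLike.not_le_iff_exists.1 h
  refine r.move' (r'.w_le_b hb) hbC hw.1 ?_
  rw [commutatorElement_eq_one_iff_mul_comm.2 (Subgroup.mem_centralizer_iff.1 hb.2 w hw.2)]
  exact Commute.one_left x

theorem adj_sup (r : Root Q B V C x K) (r' : Root Q' B V' C' x' K') (hq : C.relIndex B = C'.relIndex B)
    (h : ¬ wOf V' C' ≤ C) : B ≤ wOf V' C' ⊔ C := by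
  have h' : ¬ wOf V C ≤ C' := fun e => h (r'.nonadj_symm r e)
  refine (eq_of_relIndex (le_sup_right : C ≤ wOf V' C' ⊔ C) (sup_le r'.w_le_b r.cB) ?_).ge
  rw [sup_comm, CfsgLib.ZJ.relIndex_sup_of_le_normalizer (r'.w_le_b.trans r.cN), ← Subgroup.inf_relIndex_right C (wOf V' C'),
    inf_comm, r'.adj_inf r h', r'.facts.1, hq]

theorem l_eq_of_adj (r : Root Q B V C x K) (r' : Root Q' B V' C' x' K') (hq : C.relIndex B = C'.relIndex B)
    (h : ¬ wOf V' C' ≤ C) : lOf V B C = lOf V' B C' := by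
  have key : ∀ {Q₁ V₁ C₁ K₁ : Subgroup G} {x₁ : G} {Q₂ V₂ C₂ K₂ : Subgroup G} {x₂ : G},
      Root Q₁ B V₁ C₁ x₁ K₁ → Root Q₂ B V₂ C₂ x₂ K₂ → C₁.relIndex B = C₂.relIndex B → ¬ wOf V₂ C₂ ≤ C₁ →
      lOf V₁ B C₁ = ⁅wOf V₁ C₁, wOf V₂ C₂⁆ := by
    intro Q₁ V₁ C₁ K₁ x₁ Q₂ V₂ C₂ K₂ x₂ r₁ r₂ hq h
    refine le_antisymm (Subgroup.commutator_le.2 fun w hw b hb => ?_) (Subgroup.commutator_mono le_rfl r₂.w_le_b)
    obtain ⟨v, hv, c, hc, rfl⟩ := exists_mul_of_mem_sup (r₂.w_le_b.trans r₁.cN) (r₁.adj_sup r₂ hq h hb)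
    have e : ⁅w, v * c⁆ = ⁅w, v⁆ * v * ⁅w, c⁆ * v⁻¹ := by simp only [commutatorElement_def]; group
    rw [e, commutatorElement_eq_one_iff_mul_comm.2 (Subgroup.mem_centralizer_iff.1 hw.2 c hc).symm, mul_one,
      mul_inv_cancel_right]
    exact Subgroup.commutator_mem_commutator hw hv
  rw [key r r' hq h, key r' r hq.symm (fun e => h (r'.nonadj_symm r e)),
    Subgroup.commutator_comm]

theorem le_centralizer_of_l_eq (r : Root Q B V C x K) (r' : Root Q' B V' C' x' K')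
    (r'' : Root Q'' B V'' C'' x'' K'') (hq : C'.relIndex B = C''.relIndex B) (h : ¬ wOf V'' C'' ≤ C')
    (h1 : wOf V' C' ≤ C) (h2 : wOf V'' C'' ≤ C) : lOf V' B C' ≤ Subgroup.centralizer {x} := by
  refine le_trans (Subgroup.commutator_le.2 fun w hw b hb => ?_) (r.comm_le h1 h2)
  obtain ⟨v, hv, c, hc, rfl⟩ := exists_mul_of_mem_sup (r''.w_le_b.trans r'.cN) (r'.adj_sup r'' hq h hb)
  have e : ⁅w, v * c⁆ = ⁅w, v⁆ * v * ⁅w, c⁆ * v⁻¹ := by simp only [commutatorElement_def]; group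
  rw [e, commutatorElement_eq_one_iff_mul_comm.2 (Subgroup.mem_centralizer_iff.1 hw.2 c hc).symm, mul_one,
    mul_inv_cancel_right]
  exact Subgroup.commutator_mem_commutator hw hv

/-- Two roots on the same module with different kernels. -/
theorem same_sup {C₂ K₂ : Subgroup G} {x₂ : G} (r : Root Q B V C x K) (r' : Root Q B V C₂ x₂ K₂)
    (hq : C.relIndex B = C₂.relIndex B) (hne : C ≠ C₂) : B ≤ C ⊔ C₂ := by
  obtain ⟨A, hAB, hA, hmax, hgen⟩ := r.big
  by_cases hA2 : A ≤ C₂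
  · exact hgen.trans (sup_le (hA2.trans le_sup_right) le_sup_left)
  have hVn : ∀ b ∈ B, ∀ v ∈ V, ⁅v, b⁆ ∈ V := fun b hb v hv => by
    rw [commutatorElement_def, mul_assoc, mul_assoc, ← mul_assoc b]
    exact mul_mem hv ((Subgroup.mem_normalizer_iff.1 (r.bV hb) _).1 (inv_mem hv))
  have claim : ∀ u ∈ wOf V C, ∀ v ∈ wOf V C₂, u * v ∈ A → u ∈ yOf V B ∧ v ∈ yOf V B := by
    intro u hu v hv huv
    have h1 : ∀ a ∈ A, ⁅v, a⁆ = ⁅u, a⁆ := by
      intro a ha
      have h := commutatorElement_eq_one_iff_mul_comm.2 (hA.1 _ huv a ha)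
      have e : ⁅u * v, a⁆ = u * ⁅v, a⁆ * u⁻¹ * ⁅u, a⁆ := by simp only [commutatorElement_def]; group
      rw [e, r.velem.1 u hu.1 _ (hVn a (hAB ha) v hv.1), mul_inv_cancel_right] at h
      rw [eq_inv_of_mul_eq_one_left h, elem2_inv r.velem (hVn a (hAB ha) u hu.1)]
    have hu' : u ∈ yOf V B := by
      by_contra huy
      have h2 : A ⊓ C₂ ≤ A ⊓ C := fun a ha => ⟨ha.1, by
        by_contra haC
        refine huy (r.move' (hAB ha.1) haC hu ?_)
        rw [← h1 a ha.1, commutatorElement_eq_one_iff_mul_comm.2 (Subgroup.mem_centralizer_iff.1 hv.2 a ha.2).symm]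
        exact Commute.one_left x⟩
      obtain ⟨b, hb2, hbC⟩ : ∃ b ∈ C₂, b ∉ C := by
        by_contra h
        push Not at h
        refine hne (Subgroup.eq_of_le_of_card_ge (h : C₂ ≤ C) ?_).symm
        have e1 := card_mul_relIndex' r.cB
        have e2 := card_mul_relIndex' r'.cB
        rw [← hq, ← e1] at e2
        exact (Nat.eq_of_mul_eq_mul_right (relIndex_pos C B) e2).ge
      obtain ⟨a, ha, c, hc, rfl⟩ : ∃ a ∈ A, ∃ c ∈ C, a * c = b :=
        exists_mul_of_mem_sup (hAB.trans r.cN) (hgen (r'.cB hb2))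
      set c' := a * c * a⁻¹ with hc'
      have hc'C : c' ∈ C := (Subgroup.mem_normalizer_iff.1 (r.cN (hAB ha)) c).1 hc
      have haC : a ∉ C := fun h => hbC (mul_mem h hc)
      refine huy (r.move' (hAB ha) haC hu ?_)
      have h3 : ⁅v, c' * a⁆ = 1 := by
        rw [hc', inv_mul_cancel_right]
        exact commutatorElement_eq_one_iff_mul_comm.2 (Subgroup.mem_centralizer_iff.1 hv.2 _ hb2).symm
      have e : ⁅v, c' * a⁆ = ⁅v, c'⁆ * (c' * ⁅v, a⁆ * c'⁻¹) := by simp only [commutatorElement_def]; group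
      have huW : ⁅u, a⁆ ∈ wOf V C := by
        rw [commutatorElement_def, mul_assoc, mul_assoc, ← mul_assoc a]
        exact mul_mem hu ((Subgroup.mem_normalizer_iff.1 (r.b_norm_w (hAB ha)) _).1 (inv_mem hu))
      rw [e, h1 a ha, Subgroup.mem_centralizer_iff.1 huW.2 c' hc'C, mul_inv_cancel_right] at h3
      rw [eq_inv_of_mul_eq_one_right h3]
      exact (r.comm_comm (r.v_le_c hv.1) hc'C).inv_left
    refine ⟨hu', ?_⟩
    obtain ⟨a, ha, haC⟩ := SetLike.not_le_iff_exists.1 hA2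
    refine r'.move' (hAB ha) haC hv ?_
    rw [h1 a ha, commutatorElement_eq_one_iff_mul_comm.2 (Subgroup.mem_centralizer_iff.1 hu'.2 a (hAB ha)).symm]
    exact Commute.one_left x₂
  set W := wOf V C with hW
  set W₂ := wOf V C₂ with hW2
  set Y := yOf V B with hY
  have hWn : W ≤ Subgroup.normalizer (W₂ : Set G) :=
    le_normalizer_of_comm fun a ha d hd => r.velem.1 a ha.1 d hd.1
  have hmeet : W ⊓ W₂ ≤ Y := fun w hw =>
    (claim w hw.1 w⁻¹ (inv_mem hw.2) (by rw [mul_inv_cancel]; exact one_mem A)).1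
  have hU : W ⊔ W₂ ≤ V := sup_le inf_le_left inf_le_left
  set D := A ⊓ (C ⊓ C₂) with hD
  have hc : ∀ d ∈ D, ∀ w ∈ W ⊔ W₂, d * w = w * d := by
    intro d hd w hw
    obtain ⟨a, ha, a', ha', rfl⟩ := exists_mul_of_mem_sup hWn hw
    rw [← mul_assoc, Subgroup.mem_centralizer_iff.1 ha.2 d hd.2.1, mul_assoc,
      Subgroup.mem_centralizer_iff.1 ha'.2 d hd.2.2, mul_assoc]
  have hE := elem2_sup (A := D) (D := W ⊔ W₂) ⟨fun a ha b hb => hA.1 a ha.1 b hb.1, fun a ha => hA.2 a ha.1⟩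
    ⟨fun a ha b hb => r.velem.1 a (hU ha) b (hU hb), fun a ha => r.velem.2 a (hU ha)⟩ hc
  have hle := hmax _ (sup_le (inf_le_left.trans hAB) (hU.trans r.vB)) hE
  have hcard := card_sup_mul_card_inf _ _ hc
  have hinf : D ⊓ (W ⊔ W₂) ≤ Y := fun w hw => by
    obtain ⟨a, ha, a', ha', rfl⟩ := exists_mul_of_mem_sup hWn hw.2
    obtain ⟨h1, h2⟩ := claim a ha a' ha' hw.1.1
    exact mul_mem h1 h2
  -- count
  have c1 : Nat.card ↥(W ⊔ W₂) * Nat.card ↥(W ⊓ W₂) = Nat.card W * Nat.card W₂ :=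
    card_sup_mul_card_inf _ _ fun a ha d hd => r.velem.1 a ha.1 d hd.1
  have c2 : Nat.card Y * C.relIndex B = Nat.card W := by rw [← r.facts.1]; exact card_mul_relIndex' r.y_le_w
  have c3 : Nat.card Y * C.relIndex B = Nat.card W₂ := by rw [hq, ← r'.facts.1]; exact card_mul_relIndex' r'.y_le_w
  have c4 : Nat.card ↥(W ⊓ W₂) ≤ Nat.card Y := Subgroup.card_le_of_le hmeet
  have c5 : Nat.card ↥(D ⊓ (W ⊔ W₂)) ≤ Nat.card Y := Subgroup.card_le_of_le hinf
  have c6 : Nat.card D * D.relIndex A = Nat.card A := card_mul_relIndex' inf_le_left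
  have c7 : D.relIndex A ≤ C.relIndex B * C₂.relIndex C := by
    rw [hD, Subgroup.inf_relIndex_left]
    refine le_trans (Subgroup.relIndex_le_of_le_right hAB (relIndex_ne_zero' _ _)) (le_of_eq ?_)
    rw [← Subgroup.relIndex_mul_relIndex (C ⊓ C₂) C B inf_le_left r.cB, Subgroup.inf_relIndex_left, mul_comm]
  set q := C.relIndex B with hqdef
  have hq2 : q * q ≤ q * C₂.relIndex C := by
    refine le_trans ?_ c7
    refine Nat.le_of_mul_le_mul_left ?_ (Nat.card_pos (α := D))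
    have : Nat.card D * (q * q) * Nat.card Y * (Nat.card Y) ≤
        Nat.card D * D.relIndex A * Nat.card Y * Nat.card Y := by
      calc Nat.card D * (q * q) * Nat.card Y * Nat.card Y
          = Nat.card D * (Nat.card ↥(W ⊔ W₂) * Nat.card ↥(W ⊓ W₂)) := by rw [c1, ← c2, ← c3]; ring
        _ ≤ Nat.card D * Nat.card ↥(W ⊔ W₂) * Nat.card Y := by
          rw [mul_assoc]; exact Nat.mul_le_mul_left _ (Nat.mul_le_mul_left _ c4)
        _ = Nat.card ↥(D ⊔ (W ⊔ W₂)) * Nat.card ↥(D ⊓ (W ⊔ W₂)) * Nat.card Y := by rw [hcard]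
        _ ≤ Nat.card A * Nat.card Y * Nat.card Y :=
          Nat.mul_le_mul_right _ (Nat.mul_le_mul hle c5)
        _ = _ := by rw [c6]
    exact Nat.le_of_mul_le_mul_right (Nat.le_of_mul_le_mul_right this Nat.card_pos) Nat.card_pos
  have hq3 : q ≤ C₂.relIndex C := Nat.le_of_mul_le_mul_left hq2 (relIndex_pos _ _)
  refine (eq_of_relIndex (le_sup_right : C₂ ≤ C ⊔ C₂) (sup_le r.cB r'.cB) ?_).ge
  rw [sup_comm, CfsgLib.ZJ.relIndex_sup_of_le_normalizer (r.cB.trans r'.cN), ← hq]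
  exact hq3

theorem same_le (r : Root Q B V C x K) {C₂ K₂ : Subgroup G} {x₂ : G} (r' : Root Q B V C₂ x₂ K₂)
    (hq : C.relIndex B = C₂.relIndex B) (hne : C ≠ C₂) : lOf V B C₂ ≤ Subgroup.centralizer {x} := by
  refine le_trans (Subgroup.commutator_le.2 fun w hw b hb => ?_) (r.comm_le (A := wOf V C₂) (D := C)
    (inf_le_left.trans r.v_le_c) le_rfl)
  obtain ⟨c, hc, d, hd, rfl⟩ := exists_mul_of_mem_sup (r.cB.trans r'.cN) (r.same_sup r' hq hne hb)
  have e : ⁅w, c * d⁆ = ⁅w, c⁆ * c * ⁅w, d⁆ * c⁻¹ := by simp only [commutatorElement_def]; group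
  rw [e, commutatorElement_eq_one_iff_mul_comm.2 (Subgroup.mem_centralizer_iff.1 hw.2 d hd).symm, mul_one,
    mul_inv_cancel_right]
  exact Subgroup.commutator_mem_commutator hw hc

/-- There are no three pairwise adjacent roots. -/
theorem no_triangle (r₁ : Root Q B V C x K) (r₂ : Root Q' B V' C' x' K') (r₃ : Root Q'' B V'' C'' x'' K'')
    (h12 : C.relIndex B = C'.relIndex B) (h13 : C.relIndex B = C''.relIndex B)
    (a21 : ¬ wOf V' C' ≤ C) (a32 : ¬ wOf V'' C'' ≤ C') (a31 : ¬ wOf V'' C'' ≤ C) : False := by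
  have a13 : ¬ wOf V C ≤ C'' := fun e => a31 (r₃.nonadj_symm r₁ e)
  have a23 : ¬ wOf V' C' ≤ C'' := fun e => a32 (r₃.nonadj_symm r₂ e)
  obtain ⟨a, ha, haY⟩ := SetLike.not_le_iff_exists.1
    (fun h : wOf V C ≤ yOf V B => r₁.wx_not_y (r₁.wx_le_w.trans h))
  have ha3 : a ∉ C'' := fun h => haY (by rw [← r₁.adj_inf r₃ a31]; exact ⟨ha, h⟩)
  obtain ⟨b', hb', c, hc, e⟩ := exists_mul_of_mem_sup (r₂.w_le_b.trans r₃.cN)
    (r₃.adj_sup r₂ (h13.symm.trans h12) a23 (r₁.w_le_b ha))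
  -- `a = b' * c`
  set b := b' with hbdef
  have hb3 : b ∉ C'' := fun h => ha3 (e ▸ mul_mem h hc)
  have hb1 : b ∉ C := fun h => hb3 (r₂.y_le_c' r₃ (by rw [← r₂.adj_inf r₁ (fun e => a21 (r₂.nonadj_symm r₁ e))]; exact ⟨hb', h⟩))
  obtain ⟨d, hd, c₁, hc₁, e₁⟩ := exists_mul_of_mem_sup (r₃.w_le_b.trans r₁.cN)
    (r₁.adj_sup r₃ h13 a31 (r₂.w_le_b hb'))
  have hab : a * b ∈ C'' := by
    have h2 : b * c * b⁻¹ ∈ C'' := (Subgroup.mem_normalizer_iff.1 (r₃.cN (r₂.w_le_b hb')) c).1 hc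
    have : a * b = b * c * b⁻¹ * (b * b) := by rw [← e]; group
    rw [this, r₂.w_elem.2 b hb', mul_one]
    exact h2
  have hbd : b * d ∈ C := by
    have h2 : d * c₁ * d⁻¹ ∈ C := (Subgroup.mem_normalizer_iff.1 (r₁.cN (r₃.w_le_b hd)) c₁).1 hc₁
    have : b * d = d * c₁ * d⁻¹ * (d * d) := by rw [← e₁]; group
    rw [this, r₃.w_elem.2 d hd, mul_one]
    exact h2
  have ea : a * a = 1 := r₁.w_elem.2 a ha
  have eb : b * b = 1 := r₂.w_elem.2 b hb'
  have ed : d * d = 1 := r₃.w_elem.2 d hd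
  have k1 : (a * b) * d = d * (a * b) := (Subgroup.mem_centralizer_iff.1 hd.2 _ hab)
  have k2 : a * (b * d) = (b * d) * a := (Subgroup.mem_centralizer_iff.1 ha.2 _ hbd).symm
  have eai : a⁻¹ = a := inv_eq_of_mul_eq_one_right ea
  have ebi : b⁻¹ = b := inv_eq_of_mul_eq_one_right eb
  have key : ⁅a, b⁆ = (b * d) * (b * d) := by
    have s1 : a * b = b * d * a * d := by
      calc a * b = a * (b * d) * d := by rw [mul_assoc, mul_assoc, ed, mul_one]
        _ = b * d * a * d := by rw [k2]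
    calc ⁅a, b⁆ = a * b * (a * b) := by rw [commutatorElement_def, eai, ebi, mul_assoc]
      _ = b * d * a * d * (a * b) := by
        conv_lhs => arg 1; rw [s1]
      _ = b * d * a * (d * (a * b)) := by group
      _ = b * d * a * (a * b * d) := by rw [k1]
      _ = b * d * (a * a) * (b * d) := by group
      _ = b * d * (b * d) := by rw [ea, mul_one]
  refine haY (r₁.move' (r₂.w_le_b hb') hb1 ha ?_)
  rw [key]
  exact r₁.commute_sq hbd

end Root

end CfsgLib.QTPush
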